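import Cfsg.Agent.Lib.TwoFusion.DihedralProduct.Fusion.Model
import Cfsg.Agent.Lib.TwoFusion.DihedralProduct.Setup
import Cfsg.Agent.Lib.Transfer.ThompsonTransfer

/-!
# A Sylow 2-subgroup modelled on a product of two dihedral groups
-/

set_option autoImplicit false

namespace CfsgLib.TwoFusion.DihedralProduct.Fusion

open DihedralGroup
open Subgroup (centralizer normalizer zpowers mem_centralizer_singleton_iff)
open scoped commutatorElement

variable {G : Type*} [Group G] [Finite G]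

theorem sylow_pow_mem (S : Sylow 2 G) {g : G} (hg : g ∈ normalizer ((S : Subgroup G) : Set G)) :
    ∃ k, Odd k ∧ g ^ k ∈ (S : Subgroup G) := by
  haveI : Fact (Nat.Prime 2) := ⟨Nat.prime_two⟩
  have hle : (S : Subgroup G) ≤ normalizer ((S : Subgroup G) : Set G) := Subgroup.le_normalizer
  haveI : ((S : Subgroup G).subgroupOf (normalizer ((S : Subgroup G) : Set G))).Normal :=
    Subgroup.normal_in_normalizer
  refine ⟨_, Nat.not_even_iff_odd.1 fun h => ?_,
    Subgroup.mem_subgroupOf.1 (Subgroup.pow_index_mem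
      ((S : Subgroup G).subgroupOf (normalizer ((S : Subgroup G) : Set G))) ⟨g, hg⟩)⟩
  refine S.not_dvd_index ((even_iff_two_dvd.1 h).trans ?_)
  exact ⟨_, (Subgroup.relIndex_mul_index hle).symm⟩

/-- An element of the normaliser swapping two elements centralised by the Sylow subgroup fixes them. -/
theorem fix_of_swap (S : Sylow 2 G) {g x y : G} (hg : g ∈ normalizer ((S : Subgroup G) : Set G))
    (hx : x ∈ centralizer ((S : Subgroup G) : Set G)) (h1 : g * x * g⁻¹ = y) (h2 : g * y * g⁻¹ = x) :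
    x = y := by
  obtain ⟨k, ⟨i, rfl⟩, hk⟩ := sylow_pow_mem S hg
  have key : ∀ i : ℕ, g ^ (2 * i) * x * (g ^ (2 * i))⁻¹ = x := by
    intro i
    induction i with
    | zero => simp
    | succ i ih =>
      rw [show g ^ (2 * (i + 1)) * x * (g ^ (2 * (i + 1)))⁻¹ =
        g * (g * (g ^ (2 * i) * x * (g ^ (2 * i))⁻¹) * g⁻¹) * g⁻¹ by
          rw [show 2 * (i + 1) = 1 + (1 + 2 * i) by ring, pow_add, pow_add, pow_one]; group, ih, h1, h2]
  have h : g ^ (2 * i + 1) * x * (g ^ (2 * i + 1))⁻¹ = y := by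
    rw [show g ^ (2 * i + 1) * x * (g ^ (2 * i + 1))⁻¹ = g * (g ^ (2 * i) * x * (g ^ (2 * i))⁻¹) * g⁻¹ by
      rw [pow_succ']; group, key, h1]
  rw [← h, Subgroup.mem_centralizer_iff.1 hx _ hk, mul_inv_cancel_right]

/-- Burnside's lemma. -/
theorem normalizer_conj (S : Sylow 2 G) {x y : G} (hx : x ∈ centralizer ((S : Subgroup G) : Set G))
    (hy : y ∈ centralizer ((S : Subgroup G) : Set G)) (h : IsConj x y) :
    ∃ g ∈ normalizer ((S : Subgroup G) : Set G), g * x * g⁻¹ = y := by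
  haveI : Fact (Nat.Prime 2) := ⟨Nat.prime_two⟩
  obtain ⟨c, rfl⟩ := isConj_iff.1 h
  obtain ⟨n, hn, e⟩ := S.conj_eq_normalizer_conj_of_mem_centralizer x c⁻¹ hx
    (by rwa [inv_inv])
  rw [inv_inv] at e
  exact ⟨n⁻¹, inv_mem hn, by rw [inv_inv, e]⟩

theorem le_centralizer_single (S : Sylow 2 G) {c : G} (hc : c ∈ centralizer ((S : Subgroup G) : Set G)) :
    (S : Subgroup G) ≤ centralizer ({c} : Set G) := fun _ hs =>
  mem_centralizer_singleton_iff.2 (Subgroup.mem_centralizer_iff.1 hc _ hs)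

theorem comm_conj_mem {M : Subgroup G} {c : G} (hM : M ≤ centralizer ({c} : Set G)) {k : G} (hk : k ∈ M) :
    k * c * k⁻¹ = c := by
  rw [mem_centralizer_singleton_iff.1 (hM hk), mul_inv_cancel_right]

/-- Moving a 2-group centralising `v` into the Sylow subgroup while `v` goes to a central element. -/
theorem conj_to_central (S : Sylow 2 G) {v c : G} (hc : c ∈ centralizer ((S : Subgroup G) : Set G))
    (h : IsConj v c) {Q : Subgroup G} (hQ : IsPGroup 2 Q) (hv : ∀ q ∈ Q, Commute q v) :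
    ∃ g, g * v * g⁻¹ = c ∧ ∀ q ∈ Q, g * q * g⁻¹ ∈ (S : Subgroup G) := by
  obtain ⟨k, hk⟩ := isConj_iff.1 h
  have hQ' : Q.map (MulAut.conj k).toMonoidHom ≤ centralizer ({c} : Set G) := by
    rintro _ ⟨q, hq, rfl⟩
    rw [mem_centralizer_singleton_iff, ← hk]
    exact (Commute.map (hv q hq) (MulAut.conj k).toMonoidHom).eq
  obtain ⟨l, hl, hlS⟩ := exists_conj_into S (le_centralizer_single S hc) hQ' (hQ.map _)
  refine ⟨l * k, ?_, fun q hq => ?_⟩
  · rw [show l * k * v * (l * k)⁻¹ = l * (k * v * k⁻¹) * l⁻¹ by group, hk,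
      mem_centralizer_singleton_iff.1 hl, mul_inv_cancel_right]
  · rw [show l * k * q * (l * k)⁻¹ = l * (k * q * k⁻¹) * l⁻¹ by group]
    exact hlS _ ⟨q, hq, rfl⟩

/-- An extremal conjugate. -/
theorem exists_extremal (S : Sylow 2 G) {v : G} (hv : v ∈ (S : Subgroup G)) :
    ∃ v' ∈ (S : Subgroup G), IsConj v v' ∧ ∀ u, IsConj u v → ∀ Q : Subgroup G, IsPGroup 2 Q →
      (∀ q ∈ Q, Commute q u) → ∃ g, g * u * g⁻¹ = v' ∧ ∀ q ∈ Q, g * q * g⁻¹ ∈ (S : Subgroup G) := by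
  haveI : Fact (Nat.Prime 2) := ⟨Nat.prime_two⟩
  set C := centralizer ({v} : Set G) with hC
  have hvC : v ∈ C := mem_centralizer_singleton_iff.2 rfl
  have hvP : IsPGroup 2 (zpowers v) := S.2.to_le ((Subgroup.zpowers_le).2 hv)
  obtain ⟨T, hT⟩ := (hvP.comap_of_injective C.subtype C.subtype_injective).exists_le_sylow
  obtain ⟨g, hg⟩ := CfsgLib.Techniques.exists_conj_le_sylow S (T.2.map C.subtype)
  have hgS : ∀ t ∈ (T : Subgroup C).map C.subtype, g * t * g⁻¹ ∈ (S : Subgroup G) :=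
    fun t ht => hg ⟨t, ht, rfl⟩
  have hvT : v ∈ (T : Subgroup C).map C.subtype :=
    ⟨⟨v, hvC⟩, hT (show (⟨v, hvC⟩ : C).1 ∈ zpowers v from Subgroup.mem_zpowers v), rfl⟩
  refine ⟨g * v * g⁻¹, hgS v hvT, isConj_iff.2 ⟨g, rfl⟩, fun u hu Q hQ hQu => ?_⟩
  obtain ⟨k, hk⟩ := isConj_iff.1 hu
  set Q' := Q.map (MulAut.conj k).toMonoidHom with hQ'def
  have hQ'C : Q' ≤ C := by
    rintro _ ⟨q, hq, rfl⟩
    rw [mem_centralizer_singleton_iff, ← hk]
    exact (Commute.map (hQu q hq) (MulAut.conj k).toMonoidHom).eq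
  obtain ⟨l, hl⟩ := CfsgLib.Techniques.exists_conj_le_sylow T
    ((hQ.map _).comap_of_injective C.subtype C.subtype_injective : IsPGroup 2 (Q'.subgroupOf C))
  have hlc := mem_centralizer_singleton_iff.1 l.2
  refine ⟨g * l * k, ?_, fun q hq => ?_⟩
  · rw [show g * (l : G) * k * u * (g * l * k)⁻¹ = g * ((l : G) * (k * u * k⁻¹) * (l : G)⁻¹) * g⁻¹ by
      group, hk, hlc, mul_inv_cancel_right]
  · rw [show g * (l : G) * k * q * (g * l * k)⁻¹ = g * ((l : G) * (k * q * k⁻¹) * (l : G)⁻¹) * g⁻¹ by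
      group]
    exact hgS _ ⟨_, hl ⟨⟨k * q * k⁻¹, hQ'C ⟨q, hq, rfl⟩⟩, ⟨q, hq, rfl⟩, rfl⟩, rfl⟩

/-- The Sylow 2-subgroup is the image of a product of two dihedral groups. -/
structure Frame (S : Sylow 2 G) (n m : ℕ) (Φ : DG n × DG m →* G) : Prop where
  pos₁ : 1 ≤ n
  pos₂ : 1 ≤ m
  inj : Function.Injective Φ
  range : Φ.range = (S : Subgroup G)

namespace Frame

variable {S : Sylow 2 G} {n m : ℕ} {Φ : DG n × DG m →* G} (F : Frame S n m Φ)

include F

theorem swap : Frame S m n (Φ.comp (MulEquiv.prodComm : DG m × DG n ≃* DG n × DG m).toMonoidHom) := by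
  refine ⟨F.pos₂, F.pos₁, F.inj.comp MulEquiv.prodComm.injective, ?_⟩
  rw [MonoidHom.range_comp, MonoidHom.range_eq_top.2 MulEquiv.prodComm.surjective,
    ← MonoidHom.range_eq_map, F.range]

theorem mem (p : DG n × DG m) : Φ p ∈ (S : Subgroup G) := F.range ▸ ⟨p, rfl⟩

theorem exists_eq {x : G} (hx : x ∈ (S : Subgroup G)) : ∃ p, Φ p = x := by
  rwa [← F.range] at hx

theorem commute_iff {p q : DG n × DG m} : Commute (Φ p) (Φ q) ↔ Commute p q := by
  refine ⟨fun h => F.inj ?_, fun h => h.map Φ⟩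
  rw [map_mul, map_mul]; exact h.eq

theorem isConj_iff_of_conj (a p : DG n × DG m) (z : G) :
    IsConj (Φ (a * p * a⁻¹)) z ↔ IsConj (Φ p) z := by
  have h : IsConj (Φ p) (Φ (a * p * a⁻¹)) := isConj_iff.2 ⟨Φ a, by rw [map_mul, map_mul, map_inv]⟩
  exact ⟨fun h' => h.trans h', fun h' => h.symm.trans h'⟩

theorem central {p : DG n × DG m} (h : ∀ q, Commute p q) :
    Φ p ∈ centralizer ((S : Subgroup G) : Set G) := Subgroup.mem_centralizer_iff.2 fun x hx => by
  obtain ⟨q, rfl⟩ := F.exists_eq hx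
  exact ((h q).map Φ).eq.symm

theorem sq_iff (p : DG n × DG m) : Φ p * Φ p = 1 ↔ p * p = 1 := by
  rw [← map_mul, ← map_one Φ, F.inj.eq_iff]

theorem orderOf_eq (p : DG n × DG m) : orderOf (Φ p) = 2 ↔ p * p = 1 ∧ p ≠ 1 := by
  refine ⟨fun h => ⟨(F.sq_iff p).1 (Signalizer.involution_sq h), fun e => ?_⟩, fun h => ?_⟩
  · exact Signalizer.involution_ne_one h (by rw [e, map_one])
  · exact Signalizer.orderOf_eq_two_of (fun e => h.2 (F.inj (by rw [e, map_one]))) ((F.sq_iff p).2 h.1)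

/-- Transfer, with the subgroup given by a character. -/
theorem transfer (h2 : ∀ N : Subgroup G, N.Normal → N.index ≠ 2) (χ : DG n × DG m →* C2)
    {p : DG n × DG m} (hp : p * p = 1) (hχ : χ p ≠ 1) :
    ∃ q, q * q = 1 ∧ χ q = 1 ∧ IsConj (Φ p) (Φ q) := by
  have hp1 : p ≠ 1 := fun e => hχ (by rw [e, map_one])
  have hQ : (χ.ker.map Φ).relIndex (S : Subgroup G) = 2 := by
    rw [← F.range, MonoidHom.range_eq_map, Subgroup.relIndex_map_map_of_injective _ _ F.inj,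
      Subgroup.relIndex_top_right, Subgroup.index_ker]
    have hle : Nat.card χ.range ≤ 2 := le_trans (Subgroup.card_le_card_group _) (by simp [C2])
    have h1 : 1 < Nat.card χ.range := by
      rw [Subgroup.one_lt_card_iff_ne_bot]
      intro e
      have : χ p ∈ χ.range := ⟨p, rfl⟩
      rw [e, Subgroup.mem_bot] at this
      exact hχ this
    omega
  rcases CfsgLib.Transfer.thompson_transfer S _ hQ ((F.orderOf_eq p).2 ⟨hp, hp1⟩) with
    ⟨M, hM, hM2, -⟩ | ⟨g, q, hq, hg⟩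
  · exact absurd hM2 (h2 M hM)
  · refine ⟨q, (F.sq_iff q).1 ?_, hq, isConj_iff.2 ⟨g, hg.symm⟩⟩
    rw [hg, show g * Φ p * g⁻¹ * (g * Φ p * g⁻¹) = g * (Φ p * Φ p) * g⁻¹ by group,
      (F.sq_iff p).2 hp, mul_one, mul_inv_cancel]

/-- Re-coordinatising. -/
theorem comp (Θ : DG n × DG m →* DG n × DG m) (hΘ : Function.Injective Θ) :
    Frame S n m (Φ.comp Θ) := by
  refine ⟨F.pos₁, F.pos₂, F.inj.comp hΘ, ?_⟩
  haveI : NeZero (2 ^ n) := ⟨pow_ne_zero _ two_ne_zero⟩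
  haveI : NeZero (2 ^ m) := ⟨pow_ne_zero _ two_ne_zero⟩
  rw [MonoidHom.range_comp, MonoidHom.range_eq_top.2 (Finite.surjective_of_injective hΘ),
    ← MonoidHom.range_eq_map, F.range]

/-- The reflection classes each get exactly one twist: a character into the second factor. -/
theorem exists_phi (hn : 2 ≤ n) (z : G)
    (hex : ∀ i, ∃ c : DG m, (∀ y, Commute c y) ∧ c * c = 1 ∧
      ∀ y, y * y = 1 → (IsConj (Φ (sr i, y)) z ↔ y = c)) :
    ∃ φ : DG n →* DG m, (∀ x y, Commute (φ x) y) ∧ φ (mid n) = 1 ∧ (∀ x, φ x * φ x = 1) ∧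
      ∀ i y, y * y = 1 → (IsConj (Φ (sr i, y)) z ↔ y = φ (sr i)) := by
  have hn1 : 1 ≤ n := by omega
  obtain ⟨c₀, hc₀, hq₀, hu₀⟩ := hex 0
  obtain ⟨c₁, hc₁, hq₁, hu₁⟩ := hex 1
  obtain ⟨φ, e₀, e₁, hφ⟩ := exists_twist hn1 hq₀ hq₁ (hc₀ c₁)
  have hs : ∀ a ∈ ({c₀, c₁} : Set (DG m)), a * a = 1 := by rintro a (rfl | rfl) <;> assumption
  have hs' : ∀ a ∈ ({c₀, c₁} : Set (DG m)), ∀ b ∈ ({c₀, c₁} : Set (DG m)), Commute a b := by
    rintro a (rfl | rfl) b -
    · exact hc₀ b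
    · exact hc₁ b
  have hcen : ∀ x y, Commute (φ x) y := fun x y => by
    have hle : Subgroup.closure ({c₀, c₁} : Set (DG m)) ≤ centralizer ({y} : Set (DG m)) :=
      (Subgroup.closure_le _).2 (by
        rintro a (rfl | rfl)
        · exact mem_centralizer_singleton_iff.2 (hc₀ y).eq
        · exact mem_centralizer_singleton_iff.2 (hc₁ y).eq)
    exact mem_centralizer_singleton_iff.1 (hle (hφ x))
  refine ⟨φ, hcen, twist_mid hn φ fun x y => hcen x _,
    fun x => (sq_one_of_mem_closure hs hs' (hφ x)).1, fun i y hy => ?_⟩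
  obtain ⟨a, ha⟩ := sr_conj i
  have hconj : ∀ j, a * sr i * a⁻¹ = sr j → (IsConj (Φ (sr i, y)) z ↔ IsConj (Φ (sr j, y)) z) ∧
      φ (sr i) = φ (sr j) := fun j hj => by
    refine ⟨?_, ?_⟩
    · rw [← F.isConj_iff_of_conj (a, 1)]
      simp [hj]
    · rw [← hj, map_mul, map_mul, map_inv, (hcen a (φ (sr i))).eq, mul_inv_cancel_right]
  rcases ha with ha | ha
  · obtain ⟨h1, h2⟩ := hconj 0 ha
    rw [h1, h2, e₀, hu₀ y hy]
  · obtain ⟨h1, h2⟩ := hconj 1 ha
    rw [h1, h2, e₁, hu₁ y hy]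

end Frame

end CfsgLib.TwoFusion.DihedralProduct.Fusion
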