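import Cfsg.Agent.Lib.TwoFusion.DihedralProduct.Fusion.Frame

/-!
# Fusion of involutions when both dihedral factors have order at least eight

The three central involutions are not conjugate; each class of reflections of a factor has one
twist conjugate to the central involution of that factor, and mixed involutions have none.
-/

set_option autoImplicit false

namespace CfsgLib.TwoFusion.DihedralProduct.Fusion

open DihedralGroup
open Subgroup (centralizer normalizer zpowers mem_centralizer_singleton_iff)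
open scoped commutatorElement

variable {G : Type*} [Group G] [Finite G]

/-- The classes of two elements cut out the two factors among the involutions. -/
def Separated {n m : ℕ} (Φ : DG n × DG m →* G) : Prop :=
  ∃ a b : G, ∀ p, p * p = 1 → p ≠ 1 → (IsConj (Φ p) a ↔ p.2 = 1) ∧ (IsConj (Φ p) b ↔ p.1 = 1)

theorem conj_commutator (g a b : G) :
    g * ⁅a, b⁆ * g⁻¹ = ⁅g * a * g⁻¹, g * b * g⁻¹⁆ :=
  map_commutatorElement (MulAut.conj g).toMonoidHom a b

theorem commute_conj_iff (g a b : G) :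
    Commute (g * a * g⁻¹) (g * b * g⁻¹) ↔ Commute a b := by
  refine ⟨fun h => ?_, fun h => h.map (MulAut.conj g).toMonoidHom⟩
  have := h.map (MulAut.conj g⁻¹).toMonoidHom
  simpa [MulAut.conj_apply, mul_assoc] using this

theorem commute_prod {A B : Type*} [Group A] [Group B] {p q : A × B} (h1 : Commute p.1 q.1)
    (h2 : Commute p.2 q.2) : Commute p q := Prod.ext h1.eq h2.eq

namespace Frame

variable {S : Sylow 2 G} {n m : ℕ} {Φ : DG n × DG m →* G} (F : Frame S n m Φ)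

include F

theorem central_of_cen {p : DG n × DG m} (h1 : Cen p.1) (h2 : Cen p.2) :
    Φ p ∈ centralizer ((S : Subgroup G) : Set G) :=
  F.central fun q => commute_prod (h1.commute F.pos₁ q.1) (h2.commute F.pos₂ q.2)

theorem commute_fst {p q : DG n × DG m} (h : Commute (Φ p) (Φ q)) : Commute p.1 q.1 :=
  (F.commute_iff.1 h).map (MonoidHom.fst _ _)

theorem commute_snd {p q : DG n × DG m} (h : Commute (Φ p) (Φ q)) : Commute p.2 q.2 :=
  (F.commute_iff.1 h).map (MonoidHom.snd _ _)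

variable (hn : 2 ≤ n) (hm : 2 ≤ m)

include hn hm

theorem not_both {g : G} (hg : g ∈ normalizer ((S : Subgroup G) : Set G)) :
    g * Φ (mid n, 1) * g⁻¹ ≠ Φ (mid n, mid m) := fun e => by
  obtain ⟨a, b, hab⟩ := exists_commutator hn
  have hN : ∀ p, ∃ q, Φ q = g * Φ p * g⁻¹ := fun p =>
    F.exists_eq ((Subgroup.mem_normalizer_iff.1 hg _).1 (F.mem p))
  obtain ⟨pa, hpa⟩ := hN (a, 1)
  obtain ⟨pb, hpb⟩ := hN (b, 1)
  have h0 : ⁅pa, pb⁆ = (mid n, mid m) := F.inj <| by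
    rw [map_commutatorElement, hpa, hpb, ← conj_commutator, ← map_commutatorElement, ← e]
    congr 3
    exact Prod.ext hab (commutatorElement_eq_one_iff_commute.2 (Commute.refl _))
  have h1 : ¬ Commute pa.1 pb.1 := fun h => mid_ne_one F.pos₁
    ((congrArg Prod.fst h0).symm.trans (commutatorElement_eq_one_iff_commute.2 h))
  have h2 : ¬ Commute pa.2 pb.2 := fun h => mid_ne_one F.pos₂
    ((congrArg Prod.snd h0).symm.trans (commutatorElement_eq_one_iff_commute.2 h))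
  obtain ⟨c, d, hcd⟩ := exists_commutator hm
  refine mid_ne_one F.pos₂ (hcd.symm.trans (commutatorElement_eq_one_iff_commute.2 ?_))
  have key : ∀ y : DG m, g * Φ (1, y) * g⁻¹ ∈ centralizer ((S : Subgroup G) : Set G) := fun y => by
    obtain ⟨q, hq⟩ := hN (1, y)
    have hc : ∀ x, Commute (g * Φ (1, y) * g⁻¹) (g * Φ (x, 1) * g⁻¹) := fun x =>
      (commute_conj_iff g _ _).2
        ((commute_prod (Commute.one_left x) (Commute.one_right y)).map Φ)
    have ha := hc a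
    have hb := hc b
    rw [← hq, ← hpa] at ha
    rw [← hq, ← hpb] at hb
    rw [← hq]
    exact F.central_of_cen (cen_pair F.pos₁ h1 (F.commute_fst ha) (F.commute_fst hb))
      (cen_pair F.pos₂ h2 (F.commute_snd ha) (F.commute_snd hb))
  have h := (Subgroup.mem_centralizer_iff.1 (key c) _
    ((Subgroup.mem_normalizer_iff.1 hg _).1 (F.mem (1, d))))
  exact F.commute_snd (p := (1, c)) (q := (1, d)) ((commute_conj_iff g _ _).1 h.symm)

theorem fix_or {g : G} (hg : g ∈ normalizer ((S : Subgroup G) : Set G)) :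
    g * Φ (mid n, 1) * g⁻¹ = Φ (mid n, 1) ∨ g * Φ (mid n, 1) * g⁻¹ = Φ (1, mid m) := by
  obtain ⟨q, hq⟩ := F.exists_eq ((Subgroup.mem_normalizer_iff.1 hg _).1 (F.mem (mid n, 1)))
  have hc : ∀ r, Commute (Φ q) (Φ r) := fun r => by
    have hr : g⁻¹ * Φ r * g⁻¹⁻¹ ∈ (S : Subgroup G) :=
      (Subgroup.mem_normalizer_iff.1 (inv_mem hg) _).1 (F.mem r)
    have hz := Subgroup.mem_centralizer_iff.1
      (F.central_of_cen (p := (mid n, 1)) (Or.inr rfl) (Or.inl rfl)) _ hr
    have h := (show Commute (g⁻¹ * Φ r * g⁻¹⁻¹) (Φ (mid n, 1)) from hz).symm.map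
      (MulAut.conj g).toMonoidHom
    have e : MulAut.conj g (g⁻¹ * Φ r * g⁻¹⁻¹) = Φ r := by rw [MulAut.conj_apply]; group
    simp only [MulEquiv.coe_toMonoidHom] at h
    rwa [e, MulAut.conj_apply, ← hq] at h
  obtain ⟨a, b, hab⟩ := exists_commutator hn
  obtain ⟨c, d, hcd⟩ := exists_commutator hm
  have h1 : ¬ Commute a b := fun h => mid_ne_one F.pos₁
    (hab.symm.trans (commutatorElement_eq_one_iff_commute.2 h))
  have h2 : ¬ Commute c d := fun h => mid_ne_one F.pos₂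
    (hcd.symm.trans (commutatorElement_eq_one_iff_commute.2 h))
  have hq1 : q ≠ 1 := by
    rintro rfl
    rw [map_one] at hq
    have : Φ (mid n, 1) = 1 := conj_eq_one_iff.1 hq.symm
    exact mid_ne_one F.pos₁ (congrArg Prod.fst (F.inj (this.trans (map_one Φ).symm)))
  rcases cen_pair F.pos₁ h1 (F.commute_fst (hc (a, c))) (F.commute_fst (hc (b, d))) with e1 | e1 <;>
    rcases cen_pair F.pos₂ h2 (F.commute_snd (hc (a, c))) (F.commute_snd (hc (b, d))) with e2 | e2
  · exact absurd (Prod.ext e1 e2) hq1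
  · exact Or.inr (hq ▸ congrArg Φ (Prod.ext e1 e2))
  · exact Or.inl (hq ▸ congrArg Φ (Prod.ext e1 e2))
  · exact absurd (hq.symm.trans (congrArg Φ (Prod.ext e1 e2))) (F.not_both hn hm hg)

theorem fix {g : G} (hg : g ∈ normalizer ((S : Subgroup G) : Set G)) :
    g * Φ (mid n, 1) * g⁻¹ = Φ (mid n, 1) := by
  rcases F.fix_or hn hm hg with h | h
  · exact h
  have hne : Φ (mid n, 1) ≠ Φ (1, mid m) := fun e =>
    mid_ne_one F.pos₁ (congrArg Prod.fst (F.inj e))
  rcases F.swap.fix_or hm hn hg with h' | h'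
  · exact absurd (MulAut.conj g |>.injective (h.trans h'.symm)) hne
  · exact absurd (fix_of_swap S hg (F.central_of_cen (p := (mid n, 1)) (Or.inr rfl) (Or.inl rfl)) h h') hne

theorem eq_of_conj {p q : DG n × DG m} (hp1 : Cen p.1) (hp2 : Cen p.2) (hq1 : Cen q.1) (hq2 : Cen q.2)
    (h : IsConj (Φ p) (Φ q)) : p = q := by
  obtain ⟨g, hg, e⟩ := normalizer_conj S (F.central_of_cen hp1 hp2) (F.central_of_cen hq1 hq2) h
  refine F.inj (Eq.trans ?_ e)
  have k1 : g * Φ (p.1, 1) * g⁻¹ = Φ (p.1, 1) := by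
    rcases hp1 with h' | h' <;> rw [h']
    · rw [← Prod.one_eq_mk, map_one]; group
    · exact F.fix hn hm hg
  have k2 : g * Φ (1, p.2) * g⁻¹ = Φ (1, p.2) := by
    rcases hp2 with h' | h' <;> rw [h']
    · rw [← Prod.one_eq_mk, map_one]; group
    · exact F.swap.fix hm hn hg
  have hp : p = (p.1, 1) * (1, p.2) := by simp
  rw [hp, map_mul, show g * (Φ (p.1, 1) * Φ (1, p.2)) * g⁻¹ =
    (g * Φ (p.1, 1) * g⁻¹) * (g * Φ (1, p.2) * g⁻¹) by group, k1, k2]

/-- An element moving the second factor into the Sylow subgroup. -/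
theorem move {g : G} (h : ∀ y, g * Φ (1, y) * g⁻¹ ∈ (S : Subgroup G)) :
    g * Φ (1, mid m) * g⁻¹ = Φ (1, mid m) ∧
      ∀ p, (∀ y, Commute (Φ p) (g * Φ (1, y) * g⁻¹)) → Cen p.2 := by
  obtain ⟨c, d, hcd⟩ := exists_commutator hm
  obtain ⟨pc, hpc⟩ := F.exists_eq (h c)
  obtain ⟨pd, hpd⟩ := F.exists_eq (h d)
  have h0 : g * Φ (1, mid m) * g⁻¹ = Φ ⁅pc, pd⁆ := by
    rw [map_commutatorElement, hpc, hpd, ← conj_commutator, ← map_commutatorElement]
    congr 3
    exact Prod.ext (commutatorElement_eq_one_iff_commute.2 (Commute.refl _)).symm hcd.symm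
  have hsq : ⁅pc, pd⁆ * ⁅pc, pd⁆ = 1 := (F.sq_iff _).1 (by
    rw [← h0, show g * Φ (1, mid m) * g⁻¹ * (g * Φ (1, mid m) * g⁻¹) =
      g * (Φ (1, mid m) * Φ (1, mid m)) * g⁻¹ by group,
      (F.sq_iff (1, mid m)).2 (Prod.ext (one_mul 1) (mid_sq F.pos₂)), mul_one, mul_inv_cancel])
  have e := F.eq_of_conj hn hm (p := (1, mid m)) (q := ⁅pc, pd⁆) (Or.inl rfl) (Or.inr rfl)
    (commutator_cases F.pos₁ _ _ (congrArg Prod.fst hsq))
    (commutator_cases F.pos₂ _ _ (congrArg Prod.snd hsq)) (isConj_iff.2 ⟨g, h0⟩)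
  refine ⟨by rw [h0, ← e], fun p hp => ?_⟩
  have hnc : ¬ Commute pc.2 pd.2 := fun hh => mid_ne_one F.pos₂
    ((congrArg Prod.snd e).trans (commutatorElement_eq_one_iff_commute.2 hh))
  exact cen_pair F.pos₂ hnc (F.commute_snd (hpc ▸ hp c)) (F.commute_snd (hpd ▸ hp d))

variable (h2 : ∀ N : Subgroup G, N.Normal → N.index ≠ 2)

include h2

/-- A reflection of the first factor is conjugate to a central involution, the central involution
of the other factor being fixed. -/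
theorem refl_central (i : ZMod (2 ^ n)) : ∃ c : DG m, Cen c ∧ ∃ g,
    g * Φ (sr i, 1) * g⁻¹ = Φ (mid n, c) ∧ g * Φ (1, mid m) * g⁻¹ = Φ (1, mid m) := by
  obtain ⟨φ, hφ0, hφ1, -⟩ := exists_twist F.pos₁ (A := C2) (c₀ := Multiplicative.ofAdd 1)
    (c₁ := Multiplicative.ofAdd 1) (by decide) (by decide) (Commute.all _ _)
  have hφ : ∀ j, φ (sr j) ≠ 1 := fun j => by
    obtain ⟨a, ha⟩ := sr_conj j
    have e : φ (sr j) = φ (a * sr j * a⁻¹) := by
      rw [map_mul, map_mul, map_inv, mul_comm (φ a), mul_inv_cancel_right]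
    rcases ha with ha | ha <;> rw [e, ha] <;> (first | rw [hφ0] | rw [hφ1]) <;> decide
  have hsq : ((sr i, 1) : DG n × DG m) * (sr i, 1) = 1 := Prod.ext (sr_mul_self i) (one_mul 1)
  obtain ⟨q, hq, hqχ, hqc⟩ := F.transfer h2 (φ.comp (MonoidHom.fst _ _)) hsq (hφ i)
  have hq1 : Cen q.1 := by
    by_contra hc
    obtain ⟨j, hj⟩ := not_cen F.pos₁ (congrArg Prod.fst hq) hc
    refine hφ j ?_
    rw [← hj]; exact hqχ
  have hE : IsPGroup 2 ((Φ.comp (MonoidHom.inr _ _)).range) := S.2.to_le (by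
    rw [← F.range, MonoidHom.range_comp]; exact Subgroup.map_le_range _ _)
  have hEc : ∀ x ∈ (Φ.comp (MonoidHom.inr (DG n) (DG m))).range, Commute x (Φ (sr i, 1)) := by
    rintro _ ⟨y, rfl⟩
    exact (commute_prod (Commute.one_left _) (Commute.one_right y)).map Φ
  obtain ⟨p, hp1, hp2, hpc⟩ : ∃ p : DG n × DG m, Cen p.1 ∧ Cen p.2 ∧ IsConj (Φ (sr i, 1)) (Φ p) := by
    by_cases hq2 : Cen q.2
    · exact ⟨q, hq1, hq2, hqc⟩
    obtain ⟨v, hv, hvc, hext⟩ := exists_extremal S (F.mem (sr i, 1))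
    obtain ⟨p, rfl⟩ := F.exists_eq hv
    have hD : IsPGroup 2 ((Φ.comp (MonoidHom.inl _ _)).range) := S.2.to_le (by
      rw [← F.range, MonoidHom.range_comp]; exact Subgroup.map_le_range _ _)
    have hDc : ∀ x ∈ (Φ.comp (MonoidHom.inl (DG n) (DG m))).range, Commute x (Φ q) := by
      rintro _ ⟨x, rfl⟩
      exact (commute_prod (hq1.commute F.pos₁ x).symm (Commute.one_left _)).map Φ
    obtain ⟨g, hg, hgS⟩ := hext _ (IsConj.refl _) _ hE hEc
    obtain ⟨k, hk, hkS⟩ := hext _ hqc.symm _ hD hDc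
    refine ⟨p, ?_, ?_, hvc⟩
    · refine (F.swap.move hm hn (g := k) fun x => hkS _ ⟨x, rfl⟩).2 (p.2, p.1) fun x => ?_
      show Commute (Φ p) (k * Φ (x, 1) * k⁻¹)
      rw [← hk]
      exact (commute_conj_iff k _ _).2 (hDc _ ⟨x, rfl⟩).symm
    · refine (F.move hn hm (g := g) fun y => hgS _ ⟨y, rfl⟩).2 p fun y => ?_
      rw [← hg]
      exact (commute_conj_iff g _ _).2 (hEc _ ⟨y, rfl⟩).symm
  obtain ⟨g, hg, hgS⟩ := conj_to_central S (F.central_of_cen hp1 hp2) hpc hE hEc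
  have hw := (F.move hn hm (g := g) fun y => hgS _ ⟨y, rfl⟩).1
  refine ⟨p.2, hp2, g, ?_, hw⟩
  rw [hg]
  rcases hp1 with h1 | h1
  · exfalso
    rcases hp2 with h3 | h3
    · rw [show p = 1 from Prod.ext h1 h3, map_one, conj_eq_one_iff, ← map_one Φ] at hg
      exact sr_ne_one' i (congrArg Prod.fst (F.inj hg))
    · rw [show p = (1, mid m) from Prod.ext h1 h3, ← hw] at hg
      exact sr_ne_one' i (congrArg Prod.fst (F.inj ((MulAut.conj g).injective hg)))
  · exact congrArg Φ (Prod.ext h1 rfl)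

/-- One twist of a reflection is conjugate to `z`, the other to `z * w`. -/
theorem refl_class (i : ZMod (2 ^ n)) : ∃ c : DG m, Cen c ∧
    IsConj (Φ (sr i, c)) (Φ (mid n, 1)) ∧ IsConj (Φ (sr i, c * mid m)) (Φ (mid n, mid m)) := by
  obtain ⟨c, hc, g, hg, hw⟩ := F.refl_central hn hm h2 i
  have hmm : mid m * mid m = 1 := mid_sq F.pos₂
  have key : g * Φ (sr i, mid m) * g⁻¹ = Φ (mid n, c * mid m) := by
    have e1 : Φ (sr i, mid m) = Φ (sr i, 1) * Φ (1, mid m) := by
      rw [← map_mul, Prod.mk_mul_mk, mul_one, one_mul]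
    rw [e1, show g * (Φ (sr i, 1) * Φ (1, mid m)) * g⁻¹ =
      g * Φ (sr i, 1) * g⁻¹ * (g * Φ (1, mid m) * g⁻¹) by group, hg, hw, ← map_mul, Prod.mk_mul_mk,
      mul_one]
  refine ⟨c, hc, ?_⟩
  rcases hc with rfl | rfl
  · rw [one_mul] at key ⊢
    exact ⟨isConj_iff.2 ⟨g, hg⟩, isConj_iff.2 ⟨g, key⟩⟩
  · rw [hmm] at key ⊢
    exact ⟨isConj_iff.2 ⟨g, key⟩, isConj_iff.2 ⟨g, hg⟩⟩

/-- An element `(a, reflection)` with central `a` is conjugate to `w` or `z * w`. -/
theorem refl_class_swap (j : ZMod (2 ^ m)) {a : DG n} (ha : Cen a) :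
    IsConj (Φ (a, sr j)) (Φ (1, mid m)) ∨ IsConj (Φ (a, sr j)) (Φ (mid n, mid m)) := by
  obtain ⟨b, hb, h1, h2'⟩ := F.swap.refl_class hm hn h2 j
  have h1' : IsConj (Φ (b, sr j)) (Φ (1, mid m)) := h1
  have h2'' : IsConj (Φ (b * mid n, sr j)) (Φ (mid n, mid m)) := h2'
  have h : a = b ∨ a = b * mid n := by
    rcases ha with rfl | rfl <;> rcases hb with rfl | rfl
    · exact Or.inl rfl
    · exact Or.inr (mid_sq F.pos₁).symm
    · exact Or.inr (one_mul _).symm
    · exact Or.inl rfl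
  rcases h with rfl | rfl
  · exact Or.inl h1'
  · exact Or.inr h2''

/-- Mixed involutions are not conjugate to `z`. -/
theorem mixed (i : ZMod (2 ^ n)) (j : ZMod (2 ^ m)) :
    ¬ IsConj (Φ (sr i, sr j)) (Φ (mid n, 1)) := fun hv => by
  have hcomm : Commute (Φ (1, mid m)) (Φ (sr i, sr j)) :=
    (commute_prod (Commute.one_left _) (mid_central F.pos₂ _)).map Φ
  obtain ⟨g, hg, hgS⟩ := conj_to_central S (F.central_of_cen (p := (mid n, 1)) (Or.inr rfl) (Or.inl rfl)) hv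
    (Q := zpowers (Φ (1, mid m))) (S.2.to_le (Subgroup.zpowers_le.2 (F.mem _))) (fun q hq => by
      obtain ⟨k, rfl⟩ := Subgroup.mem_zpowers_iff.1 hq
      exact hcomm.zpow_left k)
  obtain ⟨p, hp⟩ := F.exists_eq (hgS _ (Subgroup.mem_zpowers _))
  have hpw : IsConj (Φ p) (Φ (1, mid m)) := (isConj_iff.2 ⟨g, hp.symm⟩ : IsConj _ _).symm
  obtain ⟨b, hb⟩ := sr_mid hm j
  have hvq : IsConj (Φ ((mid n, 1) * p)) (Φ (mid n, 1)) := by
    have e : g * Φ (sr i, sr j * mid m) * g⁻¹ = Φ ((mid n, 1) * p) := by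
      rw [show ((sr i, sr j * mid m) : DG n × DG m) = (sr i, sr j) * (1, mid m) by simp, map_mul,
        show g * (Φ (sr i, sr j) * Φ (1, mid m)) * g⁻¹ =
          g * Φ (sr i, sr j) * g⁻¹ * (g * Φ (1, mid m) * g⁻¹) by group, hg, ← hp, ← map_mul]
    have h' : IsConj (Φ (sr i, sr j * mid m)) (Φ (mid n, 1)) := by
      rw [← hb]
      exact ((F.isConj_iff_of_conj (1, b) (sr i, sr j) _).2 hv) |> fun h => by simpa using h
    exact ((isConj_iff.2 ⟨g, e⟩ : IsConj _ _).symm).trans h'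
  have hpp : p * p = 1 := (F.sq_iff p).1 (by
    rw [hp, show g * Φ (1, mid m) * g⁻¹ * (g * Φ (1, mid m) * g⁻¹) =
      g * (Φ (1, mid m) * Φ (1, mid m)) * g⁻¹ by group,
      (F.sq_iff (1, mid m)).2 (Prod.ext (one_mul 1) (mid_sq F.pos₂)), mul_one, mul_inv_cancel])
  have hzw : ¬ IsConj (Φ (1, mid m)) (Φ (mid n, 1)) := fun h => mid_ne_one F.pos₁
    (congrArg Prod.fst (F.eq_of_conj hn hm (Or.inl rfl) (Or.inr rfl) (Or.inr rfl) (Or.inl rfl) h)).symm
  have htw : ¬ IsConj (Φ (1, mid m)) (Φ (mid n, mid m)) := fun h => mid_ne_one F.pos₁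
    (congrArg Prod.fst (F.eq_of_conj hn hm (Or.inl rfl) (Or.inr rfl) (Or.inr rfl) (Or.inr rfl) h)).symm
  have htz : ¬ IsConj (Φ (mid n, mid m)) (Φ (mid n, 1)) := fun h => mid_ne_one F.pos₂
    (congrArg Prod.snd (F.eq_of_conj hn hm (Or.inr rfl) (Or.inr rfl) (Or.inr rfl) (Or.inl rfl) h))
  by_cases h1 : Cen p.1
  · by_cases h3 : Cen p.2
    · have e := F.eq_of_conj hn hm h1 h3 (Or.inl rfl) (Or.inr rfl) hpw
      rw [e, Prod.mk_mul_mk, mul_one, one_mul] at hvq
      exact htz hvq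
    · obtain ⟨l, hl⟩ := not_cen F.pos₂ (congrArg Prod.snd hpp) h3
      obtain ⟨b', hb', k1, k2⟩ := F.swap.refl_class hm hn h2 l
      have k1' : IsConj (Φ (b', sr l)) (Φ (1, mid m)) := k1
      have k2' : IsConj (Φ (b' * mid n, sr l)) (Φ (mid n, mid m)) := k2
      rw [show p = (p.1, sr l) from Prod.ext rfl hl, Prod.mk_mul_mk, one_mul] at hvq
      rw [show p = (p.1, sr l) from Prod.ext rfl hl] at hpw
      have : p.1 = b' ∨ p.1 = b' * mid n := by
        rcases h1 with e | e <;> rcases hb' with rfl | rfl <;> rw [e]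
        · exact Or.inl rfl
        · exact Or.inr (mid_sq F.pos₁).symm
        · exact Or.inr (one_mul _).symm
        · exact Or.inl rfl
      rcases this with e | e
      · rw [e, ← (hb'.commute F.pos₁ (mid n)).eq] at hvq
        exact htz (k2'.symm.trans hvq)
      · rw [e] at hpw
        exact htw (hpw.symm.trans k2')
  · obtain ⟨k, hk⟩ := not_cen F.pos₁ (congrArg Prod.fst hpp) h1
    obtain ⟨a, ha⟩ := sr_mid hn k
    have : IsConj (Φ ((mid n, 1) * p)) (Φ (1, mid m)) := by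
      rw [show (mid n, 1) * p = (a, 1) * p * (a, 1)⁻¹ from Prod.ext (by
        simp [hk, ha, (mid_central F.pos₁ (sr k)).eq]) (by simp), F.isConj_iff_of_conj]
      exact hpw
    exact hzw (this.symm.trans hvq)

theorem exists_phi_left : ∃ φ : DG n →* DG m, (∀ x y, Commute (φ x) y) ∧ φ (mid n) = 1 ∧
    (∀ x, Cen (φ x)) ∧
    ∀ p, p * p = 1 → p ≠ 1 → (IsConj (Φ p) (Φ (mid n, 1)) ↔ p.2 = φ p.1) := by
  obtain ⟨φ, hφ, hφm, hφ2, hiff⟩ := F.exists_phi hn (Φ (mid n, 1)) fun i => by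
    obtain ⟨c, hc, h1, h2'⟩ := F.refl_class hn hm h2 i
    refine ⟨c, hc.commute F.pos₂, hc.sq F.pos₂, fun y hy => ⟨fun h => ?_, fun e => e ▸ h1⟩⟩
    by_cases hy' : Cen y
    · rcases hy' with rfl | rfl <;> rcases hc with rfl | rfl
      · rfl
      · rw [mid_sq F.pos₂] at h2'
        exact absurd (F.eq_of_conj hn hm (Or.inr rfl) (Or.inl rfl) (Or.inr rfl) (Or.inr rfl)
          (h.symm.trans h2')) (fun e => mid_ne_one F.pos₂ (congrArg Prod.snd e).symm)
      · rw [one_mul] at h2'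
        exact absurd (F.eq_of_conj hn hm (Or.inr rfl) (Or.inl rfl) (Or.inr rfl) (Or.inr rfl)
          (h.symm.trans h2')) (fun e => mid_ne_one F.pos₂ (congrArg Prod.snd e).symm)
      · rfl
    · obtain ⟨j, rfl⟩ := not_cen F.pos₂ hy hy'
      exact absurd h (F.mixed hn hm h2 i j)
  have hcen : ∀ x, Cen (φ x) := fun x => by
    by_contra hc
    obtain ⟨j, hj⟩ := not_cen F.pos₂ (hφ2 x) hc
    obtain ⟨b, hb⟩ := sr_mid hm j
    have h := hφ x b
    rw [hj] at h
    rw [← h.eq, mul_inv_cancel_right] at hb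
    exact mid_ne_one F.pos₂ (mul_eq_left.1 hb.symm)
  refine ⟨φ, hφ, hφm, hcen, fun p hp hp1 => ?_⟩
  by_cases hc : Cen p.1
  · have e : φ p.1 = 1 := by
      rcases hc with e | e <;> rw [e]
      · exact map_one φ
      · exact hφm
    rw [e]
    by_cases hc2 : Cen p.2
    · refine ⟨fun h => congrArg Prod.snd (F.eq_of_conj hn hm hc hc2 (Or.inr rfl) (Or.inl rfl) h),
        fun h => ?_⟩
      rcases hc with e1 | e1
      · exact absurd (Prod.ext e1 h) hp1
      · rw [show p = (mid n, 1) from Prod.ext e1 h]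
    · obtain ⟨j, hj⟩ := not_cen F.pos₂ (congrArg Prod.snd hp) hc2
      refine ⟨fun h => ?_, fun h => absurd (Or.inl h) hc2⟩
      rw [show p = (p.1, sr j) from Prod.ext rfl hj] at h
      rcases F.refl_class_swap hn hm h2 j hc with k | k
      · exact absurd (F.eq_of_conj hn hm (Or.inl rfl) (Or.inr rfl) (Or.inr rfl) (Or.inl rfl)
          (k.symm.trans h)) (fun e' => mid_ne_one F.pos₁ (congrArg Prod.fst e').symm)
      · exact absurd (F.eq_of_conj hn hm (Or.inr rfl) (Or.inr rfl) (Or.inr rfl) (Or.inl rfl)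
          (k.symm.trans h)) (fun e' => mid_ne_one F.pos₂ (congrArg Prod.snd e'))
  · obtain ⟨i, hi⟩ := not_cen F.pos₁ (congrArg Prod.fst hp) hc
    rw [show p = (sr i, p.2) from Prod.ext hi rfl]
    exact hiff i p.2 (congrArg Prod.snd hp)

/-- Both factors twisted. -/
theorem exists_separated : ∃ Φ' : DG n × DG m →* G, Frame S n m Φ' ∧ Separated Φ' := by
  obtain ⟨φ, hφ, hφm, hφC, hA⟩ := F.exists_phi_left hn hm h2
  obtain ⟨ψ, hψ, hψm, hψC, hB⟩ := F.swap.exists_phi_left hm hn h2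
  have hφψ : ∀ y, φ (ψ y) = 1 := fun y => by
    rcases hψC y with e | e <;> rw [e]
    · exact map_one φ
    · exact hφm
  have hψφ : ∀ x, ψ (φ x) = 1 := fun x => by
    rcases hφC x with e | e <;> rw [e]
    · exact map_one ψ
    · exact hψm
  let Θ : DG n × DG m →* DG n × DG m :=
    MonoidHom.noncommCoprod ((MonoidHom.id _).prod φ) (ψ.prod (MonoidHom.id _))
      fun x y => commute_prod (hψ y x).symm (hφ x y)
  have hΘ : ∀ p, Θ p = (p.1 * ψ p.2, φ p.1 * p.2) := fun p => rfl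
  have hinj : Function.Injective Θ := (injective_iff_map_eq_one Θ).2 fun p hp => by
    rw [hΘ] at hp
    have e1 := congrArg Prod.fst hp
    have e2 := congrArg Prod.snd hp
    simp only [Prod.fst_one, Prod.snd_one] at e1 e2
    have h1 := congrArg φ e1
    rw [map_mul, hφψ, mul_one, map_one] at h1
    rw [h1, one_mul] at e2
    rw [e2, map_one, mul_one] at e1
    exact Prod.ext e1 e2
  refine ⟨Φ.comp Θ, F.comp Θ hinj, Φ (mid n, 1), Φ (1, mid m), fun p hp hp1 => ?_⟩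
  have hq : Θ p * Θ p = 1 := by rw [← map_mul, hp, map_one]
  have hq1 : Θ p ≠ 1 := fun e => hp1 (hinj (e.trans (map_one Θ).symm))
  refine ⟨(hA _ hq hq1).trans ?_, ?_⟩
  · rw [hΘ, map_mul, hφψ, mul_one, mul_eq_left]
  · have h := hB ((Θ p).2, (Θ p).1) (Prod.ext (congrArg Prod.snd hq) (congrArg Prod.fst hq))
      (fun e => hq1 (Prod.ext (congrArg Prod.snd e) (congrArg Prod.fst e)))
    refine Iff.trans (b := (Θ p).1 = ψ (Θ p).2) h ?_
    rw [hΘ, map_mul, hψφ, one_mul, mul_eq_right]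

end Frame

end CfsgLib.TwoFusion.DihedralProduct.Fusion
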