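import Cfsg.Agent.Lib.TwoFusion.DihedralProduct.Fusion.BothBig

/-!
# One factor a four-group: a normalising element cycling it

The central involution of the large factor is fixed by the normaliser of the Sylow subgroup. Transfer
gives an element of that normaliser moving the centre, hence new coordinates in which it cycles the
four-group.
-/

set_option autoImplicit false

namespace CfsgLib.TwoFusion.DihedralProduct.Fusion

open DihedralGroup
open Subgroup (centralizer normalizer zpowers mem_centralizer_singleton_iff)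
open scoped commutatorElement

variable {G : Type*} [Group G] [Finite G]

theorem four_third (x y z : DG 1) (hx : x ≠ 1) (hy : y ≠ 1) (hxy : x ≠ y) (hz : z ≠ 1)
    (hzx : z ≠ x) (hzy : z ≠ y) : z = x * y := by
  have h : ∀ a b c : DihedralGroup (2 ^ 1), a ≠ 1 → b ≠ 1 → a ≠ b → c ≠ 1 → c ≠ a → c ≠ b → c = a * b := by
    decide
  exact h x y z hx hy hxy hz hzx hzy

theorem conj_mul_map {H : Type*} [Group H] (Φ : H →* G) (g : G) (p q : H) :
    g * Φ (p * q) * g⁻¹ = g * Φ p * g⁻¹ * (g * Φ q * g⁻¹) := by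
  rw [map_mul]; group

theorem conj_central (S : Sylow 2 G) {g x : G} (hg : g ∈ normalizer ((S : Subgroup G) : Set G))
    (hx : x ∈ centralizer ((S : Subgroup G) : Set G)) :
    g * x * g⁻¹ ∈ centralizer ((S : Subgroup G) : Set G) := Subgroup.mem_centralizer_iff.2 fun s hs => by
  have h := Subgroup.mem_centralizer_iff.1 hx _ ((Subgroup.mem_normalizer_iff.1 (inv_mem hg) _).1 hs)
  calc s * (g * x * g⁻¹) = g * (g⁻¹ * s * g⁻¹⁻¹ * x) * g⁻¹ := by group
    _ = g * (x * (g⁻¹ * s * g⁻¹⁻¹)) * g⁻¹ := by rw [h]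
    _ = g * x * g⁻¹ * s := by group

namespace Frame

variable {S : Sylow 2 G} {n : ℕ} {Φ : DG n × DG 1 →* G} (F : Frame S n 1 Φ) (hn : 2 ≤ n)

include F

theorem four_central {p : DG n × DG 1} (h : Cen p.1) :
    Φ p ∈ centralizer ((S : Subgroup G) : Set G) :=
  F.central fun q => commute_prod (h.commute F.pos₁ q.1) (four_comm p.2 q.2)

include hn

theorem cen_of_central {p : DG n × DG 1} (h : Φ p ∈ centralizer ((S : Subgroup G) : Set G)) :
    Cen p.1 := by
  obtain ⟨a, b, hab⟩ := exists_commutator hn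
  have hc : ∀ q, Commute (Φ p) (Φ q) := fun q => (Subgroup.mem_centralizer_iff.1 h _ (F.mem q)).symm
  exact cen_pair F.pos₁ (fun h' => mid_ne_one F.pos₁
    (hab.symm.trans (commutatorElement_eq_one_iff_commute.2 h'))) (F.commute_fst (hc (a, 1)))
      (F.commute_fst (hc (b, 1)))

theorem fix_mid {g : G} (hg : g ∈ normalizer ((S : Subgroup G) : Set G)) :
    g * Φ (mid n, 1) * g⁻¹ = Φ (mid n, 1) := by
  obtain ⟨a, b, hab⟩ := exists_commutator hn
  obtain ⟨pa, hpa⟩ := F.exists_eq ((Subgroup.mem_normalizer_iff.1 hg _).1 (F.mem (a, 1)))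
  obtain ⟨pb, hpb⟩ := F.exists_eq ((Subgroup.mem_normalizer_iff.1 hg _).1 (F.mem (b, 1)))
  have h0 : g * Φ (mid n, 1) * g⁻¹ = Φ ⁅pa, pb⁆ := by
    rw [map_commutatorElement, hpa, hpb, ← conj_commutator, ← map_commutatorElement]
    congr 3
    exact Prod.ext hab.symm (commutatorElement_eq_one_iff_commute.2 (Commute.refl _)).symm
  have h2 : ⁅pa.2, pb.2⁆ = 1 := commutatorElement_eq_one_iff_commute.2 (four_comm _ _)
  have hsq : ⁅pa, pb⁆ * ⁅pa, pb⁆ = 1 := (F.sq_iff _).1 (by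
    rw [← h0, show g * Φ (mid n, 1) * g⁻¹ * (g * Φ (mid n, 1) * g⁻¹) =
      g * (Φ (mid n, 1) * Φ (mid n, 1)) * g⁻¹ by group,
      (F.sq_iff (mid n, 1)).2 (Prod.ext (mid_sq F.pos₁) (one_mul 1)), mul_one, mul_inv_cancel])
  rcases commutator_cases F.pos₁ _ _ (congrArg Prod.fst hsq) with h1 | h1
  · rw [show ⁅pa, pb⁆ = 1 from Prod.ext h1 h2, map_one, conj_eq_one_iff, ← map_one Φ] at h0
    exact absurd (congrArg Prod.fst (F.inj h0)) (mid_ne_one F.pos₁)
  · rw [h0, show ⁅pa, pb⁆ = (mid n, 1) from Prod.ext h1 h2]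

theorem fix_cen {g : G} (hg : g ∈ normalizer ((S : Subgroup G) : Set G)) {e : DG n} (he : Cen e) :
    g * Φ (e, 1) * g⁻¹ = Φ (e, 1) := by
  rcases he with rfl | rfl
  · rw [← Prod.one_eq_mk, map_one]; group
  · exact F.fix_mid hn hg

theorem exists_image {g : G} (hg : g ∈ normalizer ((S : Subgroup G) : Set G)) {p : DG n × DG 1}
    (hp : Cen p.1) : ∃ q : DG n × DG 1, Cen q.1 ∧ Φ q = g * Φ p * g⁻¹ := by
  have h := conj_central S hg (F.four_central hp)
  obtain ⟨q, hq⟩ := F.exists_eq ((Subgroup.mem_normalizer_iff.1 hg _).1 (F.mem p))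
  exact ⟨q, F.cen_of_central hn (hq ▸ h), hq⟩

/-- At most one conjugate of a central involution in each coset when the centre is not moved. -/
theorem unique_of_fixed
    (hfix : ∀ g ∈ normalizer ((S : Subgroup G) : Set G), ∀ y, g * Φ (1, y) * g⁻¹ = Φ (1, y))
    {i : ZMod (2 ^ n)} {y y' : DG 1} {c : DG n × DG 1} (hc : Cen c.1)
    (h : IsConj (Φ (sr i, y)) (Φ c)) (h' : IsConj (Φ (sr i, y')) (Φ c)) : y = y' := by
  have heq : ∀ p q : DG n × DG 1, Cen p.1 → Cen q.1 → IsConj (Φ p) (Φ q) → p = q := fun p q hp hq hpq => by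
    obtain ⟨g, hg, e⟩ := normalizer_conj S (F.four_central hp) (F.four_central hq) hpq
    refine F.inj (Eq.trans ?_ e)
    have : p = (p.1, 1) * (1, p.2) := by simp
    rw [this, conj_mul_map, F.fix_cen hn hg hp, hfix g hg, map_mul]
  obtain ⟨a, ha⟩ := sr_mid hn i
  have hmid : ∀ x, IsConj (Φ (sr i * mid n, x)) (Φ c) ↔ IsConj (Φ (sr i, x)) (Φ c) := fun x => by
    rw [← ha]
    simpa using F.isConj_iff_of_conj (a, 1) (sr i, x) (Φ c)
  obtain ⟨g, hg, hgS⟩ := conj_to_central S (F.four_central hc) h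
    (Q := (S : Subgroup G) ⊓ centralizer ({Φ (sr i, y)} : Set G)) (S.2.to_le inf_le_left)
    fun q hq => mem_centralizer_singleton_iff.1 hq.2
  have hS : ∀ p : DG n × DG 1, Cen p.1 → ∃ q, Φ q = g * Φ p * g⁻¹ := fun p hp =>
    F.exists_eq (hgS _ ⟨F.mem p, mem_centralizer_singleton_iff.2
      ((commute_prod (hp.commute F.pos₁ _) (four_comm _ _)).map Φ).eq⟩)
  have hfix' : ∀ p q : DG n × DG 1, Cen p.1 → Cen q.1 → Φ q = g * Φ p * g⁻¹ →
      IsConj (Φ ((sr i, y) * p)) (Φ c) → c * p = c := fun p q hp hq e hconj => by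
    obtain rfl : p = q := heq p q hp hq (isConj_iff.2 ⟨g, e.symm⟩)
    have k : g * Φ ((sr i, y) * p) * g⁻¹ = Φ (c * p) := by rw [conj_mul_map, hg, ← e, map_mul]
    exact heq _ _ (hc.mul F.pos₁ hp) hc ((isConj_iff.2 ⟨g, k⟩ : IsConj _ _).symm.trans hconj)
  obtain ⟨q, hq⟩ := hS (mid n, 1) (Or.inr rfl)
  obtain ⟨q', hq'⟩ := hS (1, y * y') (Or.inl rfl)
  have hyy : y * (y * y') = y' := by rw [← mul_assoc, four_sq, one_mul]
  by_cases h1 : Cen q.1
  · have k := hfix' _ q (Or.inr rfl) h1 hq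
      (by rw [Prod.mk_mul_mk, mul_one]; exact (hmid y).2 h)
    exact absurd (congrArg Prod.fst (mul_eq_left.1 k)) (mid_ne_one F.pos₁)
  by_cases h2 : Cen q'.1
  · have k := hfix' _ q' (Or.inl rfl) h2 hq' (by rw [Prod.mk_mul_mk, mul_one, hyy]; exact h')
    calc y = y * (y * y') := by
          rw [show y * y' = 1 from congrArg Prod.snd (mul_eq_left.1 k), mul_one]
      _ = y' := hyy
  exfalso
  have sq : ∀ (p r : DG n × DG 1), p * p = 1 → Φ r = g * Φ p * g⁻¹ → r * r = 1 := fun p r hp e =>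
    (F.sq_iff r).1 (by
      rw [e, show g * Φ p * g⁻¹ * (g * Φ p * g⁻¹) = g * (Φ p * Φ p) * g⁻¹ by group,
        (F.sq_iff p).2 hp, mul_one, mul_inv_cancel])
  obtain ⟨u, hu⟩ := not_cen F.pos₁
    (congrArg Prod.fst (sq _ q (Prod.ext (mid_sq F.pos₁) (one_mul 1)) hq)) h1
  obtain ⟨u', hu'⟩ := not_cen F.pos₁
    (congrArg Prod.fst (sq _ q' (Prod.ext (one_mul 1) (four_sq _)) hq')) h2
  have hcomm : Commute (Φ q) (Φ q') := by
    rw [hq, hq', commute_conj_iff]
    exact (commute_prod (Commute.one_right _) (Commute.one_left _)).map Φ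
  have hcen : Cen (q * q').1 := by
    have := F.commute_fst hcomm
    rw [hu, hu'] at this
    rw [Prod.fst_mul, hu, hu']
    exact refl_mul F.pos₁ this
  have k := hfix' ((mid n, 1) * (1, y * y')) (q * q') (by simp [Cen]) hcen
    (by rw [map_mul, hq, hq', ← conj_mul_map])
    (by rw [Prod.mk_mul_mk, Prod.mk_mul_mk, mul_one, one_mul, hyy]; exact (hmid y').2 h')
  have := congrArg Prod.fst (mul_eq_left.1 k)
  rw [Prod.mk_mul_mk, mul_one] at this
  exact mid_ne_one F.pos₁ this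

theorem exists_moving (h2 : ∀ N : Subgroup G, N.Normal → N.index ≠ 2) :
    ∃ g ∈ normalizer ((S : Subgroup G) : Set G), ∃ y, g * Φ (1, y) * g⁻¹ ≠ Φ (1, y) := by
  classical
  by_contra hcon
  push Not at hcon
  obtain ⟨l, hl0, -, -⟩ := exists_twist (le_refl 1) (A := C2) (c₀ := Multiplicative.ofAdd 1)
    (c₁ := Multiplicative.ofAdd 1) (by decide) (by decide) (Commute.all _ _)
  have hC2 : ∀ x : C2, x * x = 1 := by decide
  have hflip : ∀ x : C2, Multiplicative.ofAdd 1 * x * x ≠ 1 := by decide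
  set w : DG n × DG 1 := (1, sr 0) with hw
  have hwC : Cen w.1 := Or.inl rfl
  let t : ZMod (2 ^ n) → C2 := fun j =>
    if h : ∃ y, IsConj (Φ (sr j, y)) (Φ w) then Multiplicative.ofAdd 1 * l h.choose else 1
  have ht : ∀ j y, IsConj (Φ (sr j, y)) (Φ w) → t j * l y ≠ 1 := fun j y hy => by
    have h : ∃ y, IsConj (Φ (sr j, y)) (Φ w) := ⟨y, hy⟩
    simp only [t, dif_pos h]
    rw [F.unique_of_fixed hn hcon hwC h.choose_spec hy]
    exact hflip _
  obtain ⟨φ, e0, e1, -⟩ := exists_twist F.pos₁ (hC2 (t 0)) (hC2 (t 1)) (Commute.all _ _)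
  set χ : DG n × DG 1 →* C2 := φ.comp (MonoidHom.fst _ _) * l.comp (MonoidHom.snd _ _) with hχ
  have hw1 : χ w ≠ 1 := by
    show φ 1 * l (sr 0) ≠ 1
    rw [map_one, one_mul, hl0]; decide
  obtain ⟨q, hq, hqχ, hqc⟩ := F.transfer h2 χ (Prod.ext (one_mul 1) (four_sq _)) hw1
  by_cases hc : Cen q.1
  · obtain ⟨g, hg, e⟩ := normalizer_conj S (F.four_central hwC) (F.four_central hc) hqc
    rw [hcon g hg] at e
    exact hw1 ((congrArg χ (F.inj e)).trans hqχ)
  · obtain ⟨i, hi⟩ := not_cen F.pos₁ (congrArg Prod.fst hq) hc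
    obtain ⟨a, ha⟩ := sr_conj i
    have key : ∀ j, a * sr i * a⁻¹ = sr j → φ (sr j) = t j → False := fun j hj ej => by
      have h : IsConj (Φ (sr j, q.2)) (Φ w) := by
        rw [← hj, show ((a * sr i * a⁻¹, q.2) : DG n × DG 1) = (a, 1) * q * (a, 1)⁻¹ from
          Prod.ext (by simp [hi]) (by simp), F.isConj_iff_of_conj]
        exact hqc.symm
      refine ht j q.2 h ?_
      rw [← ej, ← hj, map_mul, map_mul, map_inv, mul_comm (φ a), mul_inv_cancel_right, ← hi]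
      exact hqχ
    rcases ha with ha | ha
    · exact key 0 ha e0
    · exact key 1 ha e1

/-- New coordinates in which an element of the normaliser cycles the four-group. -/
theorem exists_cycle (h2 : ∀ N : Subgroup G, N.Normal → N.index ≠ 2) :
    ∃ Φ' : DG n × DG 1 →* G, Frame S n 1 Φ' ∧ ∃ g ∈ normalizer ((S : Subgroup G) : Set G),
      g * Φ' (1, sr 0) * g⁻¹ = Φ' (1, sr 1) ∧ g * Φ' (1, sr 1) * g⁻¹ = Φ' (1, r 1) := by
  obtain ⟨g, hg, y₀, hy₀⟩ := F.exists_moving hn h2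
  choose q hqC hq using fun y : DG 1 => F.exists_image hn hg (p := (1, y)) (Or.inl rfl)
  have step : ∀ e y, Cen e → g * Φ (e, y) * g⁻¹ = Φ (e * (q y).1, (q y).2) := fun e y he => by
    rw [show ((e, y) : DG n × DG 1) = (e, 1) * (1, y) by simp, conj_mul_map, F.fix_cen hn hg he,
      ← hq, ← map_mul]
    congr 1
    ext <;> simp
  have hz : ∀ e, Cen e → g * Φ (e, 1) * g⁻¹ = Φ (e, 1) := fun e he => F.fix_cen hn hg he
  have hne1 : ∀ y, y ≠ 1 → (q y).2 ≠ 1 := fun y hy e => by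
    have h : g * Φ (1, y) * g⁻¹ = g * Φ ((q y).1, 1) * g⁻¹ := by
      rw [hz _ (hqC y), ← hq]
      exact congrArg Φ (Prod.ext rfl e)
    exact hy (congrArg Prod.snd (F.inj ((MulAut.conj g).injective h)))
  have swap : ∀ y e, Cen e → g * Φ (1, y) * g⁻¹ = Φ (e, (q y).2) →
      g * Φ (e, (q y).2) * g⁻¹ = Φ (1, y) → g * Φ (1, y) * g⁻¹ = Φ (1, y) := fun y e _ h h' => by
    rw [h, ← fix_of_swap S hg (F.four_central (p := (1, y)) (Or.inl rfl)) h h']
  have hnf : ∀ y, y ≠ 1 → (q y).2 ≠ y := by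
    intro y hy e
    have hfy : g * Φ (1, y) * g⁻¹ = Φ (1, y) := by
      refine swap y (q y).1 (hqC y) (hq y).symm ?_
      rw [step _ _ (hqC y), e, (hqC y).sq F.pos₁, e]
    refine hy₀ ?_
    by_cases hy1 : y₀ = 1
    · rw [hy1, ← Prod.one_eq_mk, map_one]; group
    by_cases hx : y₀ = y
    · rw [hx]; exact hfy
    by_cases hxx : (q y₀).2 = y₀
    · refine swap y₀ (q y₀).1 (hqC y₀) (hq y₀).symm ?_
      rw [step _ _ (hqC y₀), hxx, (hqC y₀).sq F.pos₁, hxx]
    have hxy : (q y₀).2 ≠ y := fun e' => by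
      have h : g * Φ (1, y₀) * g⁻¹ = g * Φ ((q y₀).1, y) * g⁻¹ := by
        rw [show (((q y₀).1, y) : DG n × DG 1) = ((q y₀).1, 1) * (1, y) by simp, conj_mul_map, hfy,
          hz _ (hqC y₀), ← hq, ← map_mul]
        exact congrArg Φ (Prod.ext (by simp) (by simp [e']))
      exact hx (congrArg Prod.snd (F.inj ((MulAut.conj g).injective h)))
    have e3 := four_third y₀ y (q y₀).2 hy1 hy hx (hne1 y₀ hy1) hxx hxy
    refine swap y₀ (q y₀).1 (hqC y₀) (hq y₀).symm ?_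
    rw [show (((q y₀).1, (q y₀).2) : DG n × DG 1) = ((q y₀).1, 1) * ((1, y₀) * (1, y)) by simp [e3],
      conj_mul_map, conj_mul_map, hz _ (hqC y₀), hfy, ← hq, ← map_mul, ← map_mul]
    refine congrArg Φ (Prod.ext ?_ ?_)
    · simp [(hqC y₀).sq F.pos₁]
    · simp [e3, mul_assoc, four_sq]
  have h01 : (sr 0 : DG 1) ≠ 1 := sr_ne_one' 0
  set s := (q (sr 0)).2 with hs
  have hs1 : s ≠ 1 := hne1 _ h01
  have hsa : s ≠ sr 0 := hnf _ h01
  have hts : (q s).2 ≠ s := hnf _ hs1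
  have hta : (q s).2 ≠ sr 0 := fun e => by
    have h : g * Φ ((1, sr 0) * (1, s)) * g⁻¹ = Φ ((q (sr 0)).1 * (q s).1, sr 0 * s) := by
      rw [conj_mul_map, ← hq, ← hq, ← map_mul]
      exact congrArg Φ (Prod.ext rfl (by rw [Prod.snd_mul, e]; exact (four_comm _ _).eq))
    rw [Prod.mk_mul_mk, one_mul, ← hq] at h
    exact hnf (sr 0 * s) (fun e' => hsa (by
      calc s = sr 0 * (sr 0 * s) := by rw [← mul_assoc, four_sq, one_mul]
        _ = sr 0 := by rw [e', mul_one])) (congrArg Prod.snd (F.inj h))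
  have htt := four_third _ _ _ h01 hs1 hsa.symm (hne1 _ hs1) hta hts
  set e₁ := (q (sr 0)).1
  set e₂ := (q s).1
  have he₁ : Cen e₁ := hqC _
  have he₂ : Cen e₂ := hqC _
  set c₀ : DG n × DG 1 := (e₂, sr 0) with hc₀
  set c₁ : DG n × DG 1 := (e₂ * e₁, s) with hc₁
  obtain ⟨κ, k0, k1, kc⟩ := exists_twist (le_refl 1) (c₀ := c₀) (c₁ := c₁)
    (Prod.ext (he₂.sq F.pos₁) (four_sq _)) (Prod.ext ((he₂.mul F.pos₁ he₁).sq F.pos₁) (four_sq _))
    (commute_prod (he₂.commute F.pos₁ _) (four_comm _ _))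
  have hr : κ (r 1) = c₀ * c₁ := by rw [← k0, ← k1, ← map_mul, sr_mul_sr, sub_zero]
  have hκc : ∀ x y, Commute ((MonoidHom.inl (DG n) (DG 1)) x) (κ y) := fun x y => by
    have hle : Subgroup.closure ({c₀, c₁} : Set (DG n × DG 1)) ≤
        centralizer ({(x, 1)} : Set (DG n × DG 1)) := (Subgroup.closure_le _).2 (by
      rintro a (rfl | rfl)
      · exact mem_centralizer_singleton_iff.2 (commute_prod (he₂.commute F.pos₁ x) (four_comm _ _)).eq
      · exact mem_centralizer_singleton_iff.2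
          (commute_prod ((he₂.mul F.pos₁ he₁).commute F.pos₁ x) (four_comm _ _)).eq)
    exact (mem_centralizer_singleton_iff.1 (hle (kc y))).symm
  let Θ : DG n × DG 1 →* DG n × DG 1 := MonoidHom.noncommCoprod (MonoidHom.inl _ _) κ hκc
  have hΘ : ∀ p, Θ p = (p.1, 1) * κ p.2 := fun p => rfl
  have hinj : Function.Injective Θ := (injective_iff_map_eq_one Θ).2 fun p hp => by
    rw [hΘ] at hp
    have h2' : (κ p.2).2 = 1 := by simpa using congrArg Prod.snd hp
    rcases four_cases p.2 with e | e | e | e <;> rw [e] at h2'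
    · rw [e, map_one, mul_one] at hp
      exact Prod.ext (show p.1 = 1 from congrArg Prod.fst hp) e
    · rw [hr] at h2'
      refine absurd (show s = sr 0 from ?_) hsa
      calc s = sr 0 * (sr 0 * s) := by rw [← mul_assoc, four_sq, one_mul]
        _ = sr 0 := by rw [show sr 0 * s = 1 from h2', mul_one]
    · rw [k0] at h2'; exact absurd h2' h01
    · rw [k1] at h2'; exact absurd h2' hs1
  refine ⟨Φ.comp Θ, F.comp Θ hinj, g, hg, ?_, ?_⟩
  · show g * Φ (Θ (1, sr 0)) * g⁻¹ = Φ (Θ (1, sr 1))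
    rw [hΘ, hΘ, ← Prod.one_eq_mk, one_mul, one_mul]
    simp only [k0, k1, hc₀, hc₁]
    exact step _ _ he₂
  · show g * Φ (Θ (1, sr 1)) * g⁻¹ = Φ (Θ (1, r 1))
    rw [hΘ, hΘ, ← Prod.one_eq_mk, one_mul, one_mul]
    simp only [k1, hr, hc₀, hc₁]
    rw [step _ _ (he₂.mul F.pos₁ he₁), Prod.mk_mul_mk, htt, mul_assoc e₂ e₁ e₂,
      (he₁.commute F.pos₁ e₂).eq]

end Frame

end CfsgLib.TwoFusion.DihedralProduct.Fusion
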