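import Cfsg.Agent.Lib.TwoFusion.DihedralProduct.Fusion.OneFour

/-!
# Groups without subgroup of index two whose Sylow 2-subgroup is a product of two dihedral groups
-/

set_option autoImplicit false

namespace CfsgLib.TwoFusion.DihedralProduct.Fusion

open DihedralGroup Cfsg

variable {G : Type*} [Group G] [Finite G]

theorem Separated.swap {n m : ℕ} {Φ : DG n × DG m →* G} (h : Separated Φ) :
    Separated (Φ.comp (MulEquiv.prodComm : DG m × DG n ≃* DG n × DG m).toMonoidHom) := by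
  obtain ⟨a, b, hab⟩ := h
  refine ⟨b, a, fun p hp hp1 => ?_⟩
  exact (hab (p.2, p.1) (Prod.ext (congrArg Prod.snd hp) (congrArg Prod.fst hp))
    fun e => hp1 (Prod.ext (congrArg Prod.snd e) (congrArg Prod.fst e))).symm

namespace Frame

variable {S : Sylow 2 G} {n m : ℕ} {Φ : DG n × DG m →* G} (F : Frame S n m Φ)

include F

theorem separate (h : 2 ≤ n ∨ 2 ≤ m) (h2 : ∀ N : Subgroup G, N.Normal → N.index ≠ 2) :
    ∃ Φ' : DG n × DG m →* G, Frame S n m Φ' ∧ Separated Φ' := by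
  by_cases hn : 2 ≤ n
  · by_cases hm : 2 ≤ m
    · exact F.exists_separated hn hm h2
    obtain rfl : m = 1 := le_antisymm (by omega) F.pos₂
    obtain ⟨Φ₁, F₁, g, hg, h0, h1⟩ := F.exists_cycle hn h2
    obtain ⟨Φ₂, C, hA⟩ := (⟨F₁, hn, hg, h0, h1⟩ : Cycle S Φ₁ g).exists_twisted h2
    exact ⟨Φ₂, C.frame, C.separated hA⟩
  · have hm : 2 ≤ m := h.resolve_left hn
    obtain rfl : n = 1 := le_antisymm (by omega) F.pos₁
    obtain ⟨Φ₁, F₁, g, hg, h0, h1⟩ := F.swap.exists_cycle hm h2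
    obtain ⟨Φ₂, C, hA⟩ := (⟨F₁, hm, hg, h0, h1⟩ : Cycle S Φ₁ g).exists_twisted h2
    exact ⟨_, C.frame.swap, (C.separated hA).swap⟩

/-- The factors of a separated frame. -/
theorem split (hsep : Separated Φ) :
    IsInternalDirectProduct (Φ.comp (MonoidHom.inl _ _)).range (Φ.comp (MonoidHom.inr _ _)).range
      (S : Subgroup G) ∧
    (∀ x ∈ (S : Subgroup G), (x ∈ involClass (Φ.comp (MonoidHom.inl _ _)).range ↔
      orderOf x = 2 ∧ x ∈ (Φ.comp (MonoidHom.inl _ _)).range)) ∧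
    (∀ x ∈ (S : Subgroup G), (x ∈ involClass (Φ.comp (MonoidHom.inr _ _)).range ↔
      orderOf x = 2 ∧ x ∈ (Φ.comp (MonoidHom.inr _ _)).range)) := by
  obtain ⟨a, b, hab⟩ := hsep
  refine ⟨⟨?_, ?_, ?_, ?_, ?_⟩, ?_, ?_⟩
  · rintro _ ⟨x, rfl⟩; exact F.mem _
  · rintro _ ⟨x, rfl⟩; exact F.mem _
  · rintro _ ⟨x, rfl⟩ _ ⟨y, rfl⟩
    exact ((commute_prod (Commute.one_right x) (Commute.one_left y)).map Φ).eq
  · refine (Subgroup.eq_bot_iff_forall _).2 ?_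
    rintro _ ⟨⟨x, rfl⟩, y, hy⟩
    have hx : x = 1 := (congrArg Prod.fst (F.inj hy)).symm
    rw [hx, map_one]
  · refine le_antisymm (sup_le ?_ ?_) fun x hx => ?_
    · rintro _ ⟨x, rfl⟩; exact F.mem _
    · rintro _ ⟨x, rfl⟩; exact F.mem _
    · obtain ⟨p, rfl⟩ := F.exists_eq hx
      rw [show p = (p.1, 1) * (1, p.2) by simp, map_mul]
      exact Subgroup.mul_mem_sup ⟨p.1, rfl⟩ ⟨p.2, rfl⟩
  all_goals
    intro x hx
    obtain ⟨p, rfl⟩ := F.exists_eq hx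
    refine ⟨fun ⟨h, g, u, hu⟩ => ⟨h, ?_⟩, fun ⟨h, hm⟩ => ⟨h, 1, by simpa using hm⟩⟩
    obtain ⟨hp, hp1⟩ := (F.orderOf_eq p).1 h
    have hc : IsConj (Φ p) _ := isConj_iff.2 ⟨g, hu.symm⟩
    obtain ⟨hq, hq1⟩ := (F.orderOf_eq _).1 ((Signalizer.orderOf_conj g (Φ p)).trans h |> fun h' => by
      rw [← hu] at h'; exact h')
  · exact ⟨p.1, congrArg Φ (Prod.ext rfl ((hab p hp hp1).1.1 (hc.trans ((hab _ hq hq1).1.2 rfl))).symm)⟩
  · exact ⟨p.2, congrArg Φ (Prod.ext ((hab p hp hp1).2.1 (hc.trans ((hab _ hq hq1).2.2 rfl))).symm rfl)⟩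

end Frame

/-- The theorem: the group is the product of two normal subgroups, one around each factor. -/
theorem product (hO : oddCore G = ⊥) (hO' : ∀ N : Subgroup G, N.Normal → Odd N.index → N = ⊤)
    (h2 : ∀ N : Subgroup G, N.Normal → N.index ≠ 2) (S : Sylow 2 G)
    (hS : ¬ IsMulCommutative (S : Subgroup G)) {D₁ D₂ : Subgroup G}
    (hD : IsInternalDirectProduct D₁ D₂ (S : Subgroup G)) {m₁ m₂ : ℕ} (hm₁ : 2 ≤ m₁) (hm₂ : 2 ≤ m₂)
    (e₁ : D₁ ≃* DihedralGroup m₁) (e₂ : D₂ ≃* DihedralGroup m₂) :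
    ∃ G₁ G₂ S₁ S₂ : Subgroup G, ∃ k₁ k₂ : ℕ, G₁.Normal ∧ G₂.Normal ∧ IsInternalDirectProduct G₁ G₂ ⊤ ∧
      IsInternalDirectProduct S₁ S₂ (S : Subgroup G) ∧ 2 ≤ k₁ ∧ 2 ≤ k₂ ∧
      Nonempty (S₁ ≃* DihedralGroup k₁) ∧ Nonempty (S₂ ≃* DihedralGroup k₂) ∧
      S₁ ≤ G₁ ∧ S₂ ≤ G₂ ∧ Odd (S₁.relIndex G₁) ∧ Odd (S₂.relIndex G₂) := by
  obtain ⟨n₁, hn₁, rfl⟩ := exists_two_pow (S.2.to_le hD.1) hm₁ e₁
  obtain ⟨n₂, hn₂, rfl⟩ := exists_two_pow (S.2.to_le hD.2.1) hm₂ e₂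
  let ι : DG n₁ →* G := D₁.subtype.comp e₁.symm.toMonoidHom
  let κ : DG n₂ →* G := D₂.subtype.comp e₂.symm.toMonoidHom
  let Φ : DG n₁ × DG n₂ →* G := ι.noncommCoprod κ fun x y => hD.2.2.1 _ (e₁.symm x).2 _ (e₂.symm y).2
  have F : Frame S n₁ n₂ Φ := by
    refine ⟨hn₁, hn₂, (injective_iff_map_eq_one Φ).2 fun p hp => ?_, ?_⟩
    · have hp' : ι p.1 * κ p.2 = 1 := hp
      have hmem : ι p.1 ∈ D₁ ⊓ D₂ :=
        ⟨(e₁.symm p.1).2, (eq_inv_of_mul_eq_one_left hp').symm ▸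
          Subgroup.inv_mem D₂ (show κ p.2 ∈ D₂ from (e₂.symm p.2).2)⟩
      rw [hD.2.2.2.1, Subgroup.mem_bot] at hmem
      rw [hmem, one_mul] at hp'
      exact Prod.ext (e₁.symm.injective (Subtype.ext (hmem.trans (by simp))))
        (e₂.symm.injective (Subtype.ext (hp'.trans (by simp))))
    · have h1 : ι.range = D₁ := by
        rw [MonoidHom.range_comp, MonoidHom.range_eq_top.2 e₁.symm.surjective,
          ← MonoidHom.range_eq_map, Subgroup.range_subtype]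
      have h2' : κ.range = D₂ := by
        rw [MonoidHom.range_comp, MonoidHom.range_eq_top.2 e₂.symm.surjective,
          ← MonoidHom.range_eq_map, Subgroup.range_subtype]
      exact (MonoidHom.noncommCoprod_range ι κ _).trans (by rw [h1, h2', hD.2.2.2.2])
  have hbig : 2 ≤ n₁ ∨ 2 ≤ n₂ := by
    by_contra hc
    obtain rfl : n₁ = 1 := by omega
    obtain rfl : n₂ = 1 := by omega
    refine hS ⟨⟨fun s t => Subtype.ext ?_⟩⟩
    obtain ⟨p, hp⟩ := F.exists_eq s.2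
    obtain ⟨q, hq⟩ := F.exists_eq t.2
    show (s : G) * t = t * s
    rw [← hp, ← hq]
    exact ((commute_prod (four_comm p.1 q.1) (four_comm p.2 q.2)).map Φ).eq
  obtain ⟨Ψ, F', hsep⟩ := F.separate hbig h2
  obtain ⟨hprod, hmem₁, hmem₂⟩ := F'.split hsep
  have hi1 : Function.Injective (Ψ.comp (MonoidHom.inl (DG n₁) (DG n₂))) :=
    F'.inj.comp fun a b h => congrArg Prod.fst h
  have hi2 : Function.Injective (Ψ.comp (MonoidHom.inr (DG n₁) (DG n₂))) :=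
    F'.inj.comp fun a b h => congrArg Prod.snd h
  have f₁ := (MonoidHom.ofInjective hi1).symm
  have f₂ := (MonoidHom.ofInjective hi2).symm
  obtain ⟨G₁, G₂, hG₁, hG₂, hdp, hle₁, hle₂, ho₁, ho₂⟩ :=
    factorization_of_split hO hO' S hS hprod hm₁ hm₂ f₁ f₂
      ⟨hprod, dih_of_equiv (S.2.to_le hprod.1) hm₁ f₁, dih_of_equiv (S.2.to_le hprod.2.1) hm₂ f₂,
        hmem₁, hmem₂⟩
  exact ⟨G₁, G₂, _, _, _, _, hG₁, hG₂, hdp, hprod, hm₁, hm₂, ⟨f₁⟩, ⟨f₂⟩, hle₁, hle₂, ho₁, ho₂⟩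

end CfsgLib.TwoFusion.DihedralProduct.Fusion
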