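import Cfsg.Agent.Lib.TwoGroups.DihedralModel
import Cfsg.Agent.Lib.TwoFusion.DihedralProduct.Basic

/-!
# Facts on `DihedralGroup (2 ^ n)` for the fusion in a product of two dihedral groups
-/

set_option autoImplicit false

namespace CfsgLib.TwoFusion.DihedralProduct.Fusion

open DihedralGroup
open CfsgLib.TwoGroups
open scoped commutatorElement

/-- The model. -/
abbrev DG (n : ℕ) := DihedralGroup (2 ^ n)

/-- The central involution of the model. -/
abbrev mid (n : ℕ) : DG n := r (half n)

/-- The group of order two. -/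
abbrev C2 := Multiplicative (ZMod 2)

variable {n : ℕ}

theorem mid_sq (hn : 1 ≤ n) : mid n * mid n = 1 := by
  rw [r_mul_r, half_add_half hn, r_zero]

theorem mid_ne_one (hn : 1 ≤ n) : mid n ≠ 1 := fun h => by
  rw [one_def] at h
  exact half_ne_zero hn (r.inj h)

theorem mid_ne_sr (i : ZMod (2 ^ n)) : mid n ≠ sr i := fun h => by cases h

theorem sr_ne_one' (i : ZMod (2 ^ n)) : (sr i : DG n) ≠ 1 := fun h => by
  rw [one_def] at h; cases h

theorem mid_central (hn : 1 ≤ n) (x : DG n) : Commute (mid n) x := by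
  rcases x with t | t
  · show r (half n) * r t = r t * r (half n)
    rw [r_mul_r, r_mul_r, add_comm]
  · show r (half n) * sr t = sr t * r (half n)
    rw [r_mul_sr, sr_mul_r, sub_eq_add_neg, neg_half hn]

theorem r_sq_cases (hn : 1 ≤ n) {t : ZMod (2 ^ n)} (h : 2 * t = 0) :
    (r t : DG n) = 1 ∨ r t = mid n := by
  rcases two_mul_eq_zero hn h with rfl | rfl
  · exact Or.inl r_zero
  · exact Or.inr rfl

theorem inv_cases (hn : 1 ≤ n) {x : DG n} (h : x * x = 1) : x = 1 ∨ x = mid n ∨ ∃ i, x = sr i := by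
  rcases x with t | t
  · rcases Dihedral.sq_eq_one_r hn h with h' | rfl
    · exact Or.inl h'
    · exact Or.inr (Or.inl rfl)
  · exact Or.inr (Or.inr ⟨t, rfl⟩)

/-- The central involution and `1`. -/
def Cen (x : DG n) : Prop := x = 1 ∨ x = mid n

theorem Cen.commute (hn : 1 ≤ n) {x : DG n} (h : Cen x) (y : DG n) : Commute x y := by
  rcases h with rfl | rfl
  · exact Commute.one_left y
  · exact mid_central hn y

theorem Cen.sq (hn : 1 ≤ n) {x : DG n} (h : Cen x) : x * x = 1 := by
  rcases h with rfl | rfl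
  · exact one_mul 1
  · exact mid_sq hn

theorem Cen.mul (hn : 1 ≤ n) {x y : DG n} (h : Cen x) (h' : Cen y) : Cen (x * y) := by
  rcases h with rfl | rfl <;> rcases h' with rfl | rfl
  · exact Or.inl (one_mul 1)
  · exact Or.inr (one_mul _)
  · exact Or.inr (mul_one _)
  · exact Or.inl (mid_sq hn)

theorem not_cen_sr (i : ZMod (2 ^ n)) : ¬ Cen (sr i : DG n) := by
  rintro (h | h)
  · exact sr_ne_one' i h
  · exact mid_ne_sr i h.symm

theorem not_cen (hn : 1 ≤ n) {x : DG n} (h : x * x = 1) (hx : ¬ Cen x) : ∃ i, x = sr i := by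
  rcases inv_cases hn h with h' | h' | h'
  · exact absurd (Or.inl h') hx
  · exact absurd (Or.inr h') hx
  · exact h'

theorem commute_sr_r {i t : ZMod (2 ^ n)} (h : Commute (sr i : DG n) (r t)) : 2 * t = 0 := by
  have h' := h.eq
  rw [sr_mul_r, r_mul_sr] at h'
  have := sr.inj h'
  linear_combination this

theorem commute_sr_sr {i j : ZMod (2 ^ n)} (h : Commute (sr i : DG n) (sr j)) : 2 * (j - i) = 0 := by
  have h' := h.eq
  rw [sr_mul_sr, sr_mul_sr] at h'
  have := r.inj h'
  linear_combination this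

/-- Commuting reflections multiply into the centre. -/
theorem refl_mul (hn : 1 ≤ n) {i j : ZMod (2 ^ n)} (h : Commute (sr i : DG n) (sr j)) :
    Cen (sr i * sr j : DG n) := by
  rw [sr_mul_sr]
  exact r_sq_cases hn (commute_sr_sr h)

/-- What commutes with two noncommuting elements is central. -/
theorem cen_pair (hn : 1 ≤ n) {a b d : DG n} (hab : ¬ Commute a b) (ha : Commute d a)
    (hb : Commute d b) : Cen d := by
  rcases d with t | t
  · rcases a with u | u
    · rcases b with v | v
      · exact absurd (show r u * r v = r v * r u by rw [r_mul_r, r_mul_r, add_comm]) hab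
      · exact r_sq_cases hn (commute_sr_r hb.symm)
    · exact r_sq_cases hn (commute_sr_r ha.symm)
  · exfalso
    rcases a with u | u <;> rcases b with v | v
    · exact hab (show r u * r v = r v * r u by rw [r_mul_r, r_mul_r, add_comm])
    · have h := commute_sr_r ha
      exact hab ((show Commute (r u : DG n) (sr v) from by
        rcases r_sq_cases hn h with e | e <;> rw [e]
        · exact Commute.one_left _
        · exact mid_central hn _))
    · have h := commute_sr_r hb
      exact hab ((show Commute (sr u : DG n) (r v) from by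
        rcases r_sq_cases hn h with e | e <;> rw [e]
        · exact Commute.one_right _
        · exact (mid_central hn _).symm))
    · have h1 := commute_sr_sr ha
      have h2 := commute_sr_sr hb
      refine hab (show sr u * sr v = sr v * sr u from ?_)
      rw [sr_mul_sr, sr_mul_sr]
      congr 1
      linear_combination h2 - h1

theorem exists_commutator (hn : 2 ≤ n) : ∃ a b : DG n, ⁅a, b⁆ = mid n := by
  refine ⟨r (quarter n), sr 0, ?_⟩
  rw [commutatorElement_def, inv_r, inv_sr, r_mul_sr, sr_mul_r, sr_mul_sr]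
  congr 1
  rw [← quarter_add_quarter hn]
  ring

theorem commutator_cases (hn : 1 ≤ n) (a b : DG n) (h : ⁅a, b⁆ * ⁅a, b⁆ = 1) : Cen ⁅a, b⁆ := by
  obtain ⟨t, ht⟩ : ∃ t, ⁅a, b⁆ = r t := by
    rcases a with u | u <;> rcases b with v | v <;>
      exact ⟨_, by
        simp only [commutatorElement_def, inv_r, inv_sr, r_mul_r, r_mul_sr, sr_mul_r, sr_mul_sr]; rfl⟩
  rw [ht] at h ⊢
  rcases Dihedral.sq_eq_one_r hn h with h' | rfl
  · exact Or.inl h'
  · exact Or.inr rfl

/-- A reflection times the central involution is a conjugate of it. -/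
theorem sr_mid (hn : 2 ≤ n) (i : ZMod (2 ^ n)) : ∃ a : DG n, a * sr i * a⁻¹ = sr i * mid n := by
  refine ⟨r (quarter n), ?_⟩
  rw [Dihedral.conj_r_sr, sr_mul_r, two_mul, quarter_add_quarter hn, sub_eq_add_neg,
    neg_half (by omega)]

theorem sr_conj (i : ZMod (2 ^ n)) :
    ∃ a : DG n, a * sr i * a⁻¹ = sr 0 ∨ a * sr i * a⁻¹ = sr 1 := by
  obtain ⟨a, h | h⟩ := Dihedral.exists_conj_parity i
  · exact ⟨r a, Or.inl (by rw [Dihedral.conj_r_sr, h])⟩
  · exact ⟨r a, Or.inr (by rw [Dihedral.conj_r_sr, h])⟩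

/-- Among three reflections two are conjugate. -/
theorem sr_three (hn : 1 ≤ n) (i j k : ZMod (2 ^ n)) :
    (∃ a : DG n, a * sr i * a⁻¹ = sr j) ∨ (∃ a : DG n, a * sr i * a⁻¹ = sr k) ∨
      ∃ a : DG n, a * sr j * a⁻¹ = sr k := by
  have key : ∀ u v : ZMod (2 ^ n), Dihedral.parity hn u = Dihedral.parity hn v →
      ∃ a : DG n, a * sr u * a⁻¹ = sr v := fun u v h => by
    obtain ⟨c, hc⟩ := (half_mul_eq_zero_iff hn).1
      ((Dihedral.parity_eq_zero_iff hn (t := u - v)).1 (by rw [map_sub, h, sub_self]))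
    exact ⟨r c, by rw [Dihedral.conj_r_sr, show u - 2 * c = v by linear_combination hc]⟩
  have h3 : ∀ a b c : ZMod 2, a = b ∨ a = c ∨ b = c := by decide
  rcases h3 (Dihedral.parity hn i) (Dihedral.parity hn j) (Dihedral.parity hn k) with h | h | h
  · exact Or.inl (key i j h)
  · exact Or.inr (Or.inl (key i k h))
  · exact Or.inr (Or.inr (key j k h))

/-- A homomorphism out of the group of order two. -/
def powHom {A : Type*} [Monoid A] (c : A) (h : c ^ 2 = 1) : C2 →* A where
  toFun v := c ^ (Multiplicative.toAdd v).val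
  map_one' := pow_zero c
  map_mul' u v := by
    show c ^ (Multiplicative.toAdd u + Multiplicative.toAdd v).val = _
    rw [ZMod.val_add, ← pow_eq_pow_mod _ h, pow_add]

/-- Prescribed values at the two classes of reflections. -/
theorem exists_twist (hn : 1 ≤ n) {A : Type*} [Group A] {c₀ c₁ : A} (h0 : c₀ * c₀ = 1)
    (h1 : c₁ * c₁ = 1) (hc : Commute c₀ c₁) :
    ∃ φ : DG n →* A, φ (sr 0) = c₀ ∧ φ (sr 1) = c₁ ∧
      ∀ x, φ x ∈ Subgroup.closure ({c₀, c₁} : Set A) := by
  have hu : (c₀ * c₁) ^ 2 = 1 := by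
    rw [pow_two, mul_assoc, ← mul_assoc c₁ c₀ c₁, ← hc.eq, mul_assoc c₀ c₁ c₁, h1, mul_one, h0]
  let P := powHom c₀ (by rw [pow_two, h0])
  let Q := powHom (c₀ * c₁) hu
  let ψ : C2 × C2 →* A := P.noncommCoprod Q fun u v =>
    ((Commute.refl c₀).mul_right hc).pow_pow _ _
  let f : DG n →* A :=
    (ψ.comp (MulEquiv.prodMultiplicative (ZMod 2) (ZMod 2)).toMonoidHom).comp (Dihedral.chi hn)
  have hf : ∀ t, f (sr t) = c₀ ^ (1 : ZMod 2).val * (c₀ * c₁) ^ (Dihedral.parity hn t).val :=
    fun t => rfl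
  refine ⟨f, ?_, ?_, fun x => ?_⟩
  · rw [hf, map_zero, ZMod.val_zero, ZMod.val_one, pow_one, pow_zero, mul_one]
  · rw [hf, map_one, ZMod.val_one, pow_one, pow_one, ← mul_assoc, h0, one_mul]
  · have hψ : ∀ w : C2 × C2, ψ w ∈ Subgroup.closure ({c₀, c₁} : Set A) := fun w => by
      have e₀ : c₀ ∈ Subgroup.closure ({c₀, c₁} : Set A) := Subgroup.subset_closure (Or.inl rfl)
      have e₁ : c₁ ∈ Subgroup.closure ({c₀, c₁} : Set A) := Subgroup.subset_closure (Or.inr rfl)
      have eP : P w.1 ∈ Subgroup.closure ({c₀, c₁} : Set A) :=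
        Subgroup.pow_mem _ e₀ (Multiplicative.toAdd w.1).val
      have eQ : Q w.2 ∈ Subgroup.closure ({c₀, c₁} : Set A) :=
        Subgroup.pow_mem _ (mul_mem e₀ e₁) (Multiplicative.toAdd w.2).val
      exact mul_mem eP eQ
    exact hψ ((MulEquiv.prodMultiplicative (ZMod 2) (ZMod 2)) (Dihedral.chi hn x))

/-- A twist with central values kills the central involution. -/
theorem twist_mid (hn : 2 ≤ n) {A : Type*} [Group A] (φ : DG n →* A)
    (h : ∀ x y, Commute (φ x) (φ y)) : φ (mid n) = 1 := by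
  obtain ⟨a, b, e⟩ := exists_commutator hn
  rw [← e, map_commutatorElement, commutatorElement_eq_one_iff_commute]
  exact h a b

/-- The four group. -/
theorem four_comm (x y : DG 1) : Commute x y := by
  have h : ∀ u v : DihedralGroup (2 ^ 1), u * v = v * u := by decide
  exact h x y

theorem four_sq (x : DG 1) : x * x = 1 := by
  have h : ∀ u : DihedralGroup (2 ^ 1), u * u = 1 := by decide
  exact h x

theorem four_cases (x : DG 1) : x = 1 ∨ x = r 1 ∨ x = sr 0 ∨ x = sr 1 := by
  have h : ∀ u : DihedralGroup (2 ^ 1), u = 1 ∨ u = r 1 ∨ u = sr 0 ∨ u = sr 1 := by decide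
  exact h x

theorem cen_four_iff {n : ℕ} (hn : n = 1) (x : DG n) : ∀ y, Commute x y := by
  subst hn; exact four_comm x

end CfsgLib.TwoFusion.DihedralProduct.Fusion
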