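import Cfsg.Agent.Lib.TwoFusion.DihedralProduct.Fusion.FourBase

/-!
# One factor a four-group: the classes of involutions

With an element cycling the four-group, each class of reflections has one twist conjugate to the
central involution, and no other involution outside the centre meets the class of the four-group.
-/

set_option autoImplicit false

namespace CfsgLib.TwoFusion.DihedralProduct.Fusion

open DihedralGroup
open Subgroup (centralizer normalizer zpowers mem_centralizer_singleton_iff)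

variable {G : Type*} [Group G] [Finite G]

/-- The three-cycle on the four-group. -/
def cyc (y : DG 1) : DG 1 :=
  if y = 1 then 1 else if y = sr 0 then sr 1 else if y = sr 1 then r 1 else sr 0

theorem cyc_sr_zero : cyc (sr 0) = sr 1 := by decide

theorem cyc_sr_one : cyc (sr 1) = r 1 := by decide

theorem cyc_one : cyc 1 = 1 := by decide

theorem cyc_r : cyc (r 1) = sr 1 * r 1 := by decide

theorem cyc_ne_one {y : DG 1} (hy : y ≠ 1) : cyc y ≠ 1 := by
  have h : ∀ u : DihedralGroup (2 ^ 1), u ≠ 1 → cyc u ≠ 1 := by decide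
  exact h y hy

theorem cyc_reach {y y' : DG 1} (hy : y ≠ 1) (hy' : y' ≠ 1) :
    y' = y ∨ y' = cyc y ∨ y' = cyc (cyc y) := by
  have h : ∀ u v : DihedralGroup (2 ^ 1), u ≠ 1 → v ≠ 1 → v = u ∨ v = cyc u ∨ v = cyc (cyc u) := by
    decide
  exact h y y' hy hy'

theorem cyc_four (y : DG 1) : cyc (cyc (cyc (cyc y))) = cyc y := by
  have h : ∀ u : DihedralGroup (2 ^ 1), cyc (cyc (cyc (cyc u))) = cyc u := by decide
  exact h y

theorem exists_indicator {n : ℕ} (hn : 1 ≤ n) : ∃ φ : DG n →* C2, ∀ j, φ (sr j) ≠ 1 := by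
  obtain ⟨φ, h0, h1, -⟩ := exists_twist hn (A := C2) (c₀ := Multiplicative.ofAdd 1)
    (c₁ := Multiplicative.ofAdd 1) (by decide) (by decide) (Commute.all _ _)
  refine ⟨φ, fun j => ?_⟩
  obtain ⟨a, ha⟩ := sr_conj j
  have e : φ (sr j) = φ (a * sr j * a⁻¹) := by
    rw [map_mul, map_mul, map_inv, mul_comm (φ a), mul_inv_cancel_right]
  rcases ha with ha | ha <;> rw [e, ha] <;> (first | rw [h0] | rw [h1]) <;> decide

/-- Coordinates in which `g` cycles the four-group. -/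
structure Cycle {n : ℕ} (S : Sylow 2 G) (Φ : DG n × DG 1 →* G) (g : G) : Prop where
  frame : Frame S n 1 Φ
  two : 2 ≤ n
  mem : g ∈ normalizer ((S : Subgroup G) : Set G)
  zero : g * Φ (1, sr 0) * g⁻¹ = Φ (1, sr 1)
  one : g * Φ (1, sr 1) * g⁻¹ = Φ (1, r 1)

namespace Cycle

variable {S : Sylow 2 G} {n : ℕ} {Φ : DG n × DG 1 →* G} {g : G} (C : Cycle S Φ g)

include C

theorem apply {e : DG n} (he : Cen e) (y : DG 1) : g * Φ (e, y) * g⁻¹ = Φ (e, cyc y) := by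
  have h1 : g * Φ (1, y) * g⁻¹ = Φ (1, cyc y) := by
    rcases four_cases y with rfl | rfl | rfl | rfl
    · rw [cyc_one, ← Prod.one_eq_mk, map_one]; group
    · rw [cyc_r, show ((1, r 1) : DG n × DG 1) = (1, sr 0) * (1, sr 1) by
        rw [Prod.mk_mul_mk, one_mul, sr_mul_sr, sub_zero], conj_mul_map, C.zero, C.one, ← map_mul,
        Prod.mk_mul_mk, one_mul]
    · rw [cyc_sr_zero, C.zero]
    · rw [cyc_sr_one, C.one]
  rw [show ((e, y) : DG n × DG 1) = (e, 1) * (1, y) by simp, conj_mul_map, h1,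
    C.frame.fix_cen C.two C.mem he, ← map_mul, Prod.mk_mul_mk, mul_one, one_mul]

theorem conj_four {e : DG n} (he : Cen e) {y y' : DG 1} (hy : y ≠ 1) (hy' : y' ≠ 1) :
    IsConj (Φ (e, y)) (Φ (e, y')) := by
  rcases cyc_reach hy hy' with rfl | rfl | rfl
  · exact IsConj.refl _
  · exact isConj_iff.2 ⟨g, C.apply he y⟩
  · exact (isConj_iff.2 ⟨g, C.apply he y⟩ : IsConj _ _).trans (isConj_iff.2 ⟨g, C.apply he _⟩)

theorem not_conj {y : DG 1} (hy : y ≠ 1) (y' : DG 1) :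
    ¬ IsConj (Φ (1, y)) (Φ (mid n, y')) := fun h => by
  have hp : Cen ((1, y) : DG n × DG 1).1 := Or.inl rfl
  have hq : Cen ((mid n, y') : DG n × DG 1).1 := Or.inr rfl
  obtain ⟨k, hk, e⟩ := normalizer_conj S (C.frame.four_central hp) (C.frame.four_central hq) h
  by_cases hy' : y' = 1
  · rw [hy', ← C.frame.fix_mid C.two hk] at e
    exact hy (congrArg Prod.snd (C.frame.inj ((MulAut.conj k).injective e)))
  obtain ⟨l, hl, e'⟩ : ∃ l ∈ normalizer ((S : Subgroup G) : Set G),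
      l * Φ (mid n, y') * l⁻¹ = Φ (mid n, y) := by
    rcases cyc_reach hy' hy with rfl | rfl | rfl
    · exact ⟨1, one_mem _, by group⟩
    · exact ⟨g, C.mem, C.apply hq y'⟩
    · exact ⟨g * g, mul_mem C.mem C.mem, by
        rw [show g * g * Φ (mid n, y') * (g * g)⁻¹ = g * (g * Φ (mid n, y') * g⁻¹) * g⁻¹ by group,
          C.apply hq, C.apply hq]⟩
  have h1 : l * k * Φ (1, y) * (l * k)⁻¹ = Φ (mid n, y) := by
    rw [show l * k * Φ (1, y) * (l * k)⁻¹ = l * (k * Φ (1, y) * k⁻¹) * l⁻¹ by group, e, e']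
  have h2 : l * k * Φ (mid n, y) * (l * k)⁻¹ = Φ (1, y) := by
    rw [show ((mid n, y) : DG n × DG 1) = (mid n, 1) * (1, y) by simp, conj_mul_map, h1,
      C.frame.fix_mid C.two (mul_mem hl hk), ← map_mul, Prod.mk_mul_mk, mid_sq C.frame.pos₁, one_mul]
  exact mid_ne_one C.frame.pos₁ (congrArg Prod.fst (C.frame.inj
    (fix_of_swap S (mul_mem hl hk) (C.frame.four_central hp) h1 h2))).symm

theorem classes {p q : DG n × DG 1} (hp : Cen p.1) (hq : Cen q.1) (h : IsConj (Φ p) (Φ q)) :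
    p.1 = q.1 ∧ (p.2 = 1 ↔ q.2 = 1) := by
  have key : ∀ p q : DG n × DG 1, Cen p.1 → Cen q.1 → IsConj (Φ p) (Φ q) → p.2 = 1 → p = q :=
    fun p q hp hq h e => by
    obtain ⟨k, hk, ek⟩ := normalizer_conj S (C.frame.four_central hp) (C.frame.four_central hq) h
    rw [show p = (p.1, 1) from Prod.ext rfl e] at ek ⊢
    rw [C.frame.fix_cen C.two hk hp] at ek
    exact C.frame.inj ek
  by_cases h1 : p.2 = 1
  · obtain rfl := key p q hp hq h h1
    exact ⟨rfl, Iff.rfl⟩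
  by_cases h2 : q.2 = 1
  · obtain rfl := key q p hq hp h.symm h2
    exact absurd h2 h1
  refine ⟨?_, iff_of_false h1 h2⟩
  rcases hp with e | e <;> rcases hq with e' | e' <;> rw [e, e']
  · exfalso
    exact C.not_conj h1 q.2 (by rwa [show p = (1, p.2) from Prod.ext e rfl,
      show q = (mid n, q.2) from Prod.ext e' rfl] at h)
  · exfalso
    exact C.not_conj h2 p.2 (by rw [show p = (mid n, p.2) from Prod.ext e rfl,
      show q = (1, q.2) from Prod.ext e' rfl] at h; exact h.symm)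

theorem classes_mid {p : DG n × DG 1} (hp : Cen p.1) (h : IsConj (Φ p) (Φ (mid n, 1))) :
    p = (mid n, 1) :=
  Prod.ext (C.classes hp (Or.inr rfl) h).1 ((C.classes hp (Or.inr rfl) h).2.2 rfl)

theorem conj_refl_mid {i : ZMod (2 ^ n)} {e : DG n} (he : Cen e) (y : DG 1) :
    IsConj (Φ (sr i * e, y)) (Φ (sr i, y)) := by
  rcases he with rfl | rfl
  · rw [mul_one]
  obtain ⟨a, ha⟩ := sr_mid C.two i
  rw [← ha]
  exact (isConj_iff.2 ⟨Φ (a, 1), by rw [← map_inv, ← map_mul, ← map_mul]; simp⟩ : IsConj _ _).symm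

omit C in
theorem sq_image (F : Frame S n 1 Φ) {k : G} {p r : DG n × DG 1} (hp : p * p = 1)
    (e : Φ r = k * Φ p * k⁻¹) : r * r = 1 := (F.sq_iff r).1 (by
  rw [e, show k * Φ p * k⁻¹ * (k * Φ p * k⁻¹) = k * (Φ p * Φ p) * k⁻¹ by group,
    (F.sq_iff p).2 hp, mul_one, mul_inv_cancel])

omit C in
/-- Commuting images of involutions outside the centre multiply into it. -/
theorem mul_image (F : Frame S n 1 Φ) {k : G} {p p' r r' : DG n × DG 1} (hp : p * p = 1)
    (hp' : p' * p' = 1) (hc : Commute p p') (e : Φ r = k * Φ p * k⁻¹) (e' : Φ r' = k * Φ p' * k⁻¹)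
    (h : ¬ Cen r.1) (h' : ¬ Cen r'.1) : Cen (r * r').1 := by
  obtain ⟨u, hu⟩ := not_cen F.pos₁ (congrArg Prod.fst (sq_image F hp e)) h
  obtain ⟨u', hu'⟩ := not_cen F.pos₁ (congrArg Prod.fst (sq_image F hp' e')) h'
  have hcomm : Commute (Φ r) (Φ r') := by
    rw [e, e', commute_conj_iff]; exact hc.map Φ
  have := F.commute_fst hcomm
  rw [hu, hu'] at this
  rw [Prod.fst_mul, hu, hu']
  exact refl_mul F.pos₁ this

/-- An element taking `v` to the central `c` and moving what centralises `v` into the Sylow subgroup. -/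
theorem exists_mover {v c : DG n × DG 1} (hc : Cen c.1) (h : IsConj (Φ v) (Φ c)) :
    ∃ k, k * Φ v * k⁻¹ = Φ c ∧ ∀ p, Commute p v → ∃ r, Φ r = k * Φ p * k⁻¹ := by
  obtain ⟨k, hk, hkS⟩ := conj_to_central S (C.frame.four_central hc) h
    (Q := (S : Subgroup G) ⊓ centralizer ({Φ v} : Set G)) (S.2.to_le inf_le_left)
    fun q hq => mem_centralizer_singleton_iff.1 hq.2
  exact ⟨k, hk, fun p hp => C.frame.exists_eq
    (hkS _ ⟨C.frame.mem p, mem_centralizer_singleton_iff.2 (hp.map Φ).eq⟩)⟩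

theorem exists_z (h2 : ∀ N : Subgroup G, N.Normal → N.index ≠ 2) (i : ZMod (2 ^ n)) :
    ∃ y, IsConj (Φ (sr i, y)) (Φ (mid n, 1)) := by
  obtain ⟨φ, hφ⟩ := exists_indicator C.frame.pos₁
  set v : DG n × DG 1 := (sr i, 1) with hv
  have hv2 : v * v = 1 := Prod.ext (sr_mul_self i) (one_mul 1)
  obtain ⟨q, hq, hqχ, hqc⟩ := C.frame.transfer h2 (φ.comp (MonoidHom.fst _ _)) hv2 (hφ i)
  have hqC : Cen q.1 := by
    by_contra hc
    obtain ⟨j, hj⟩ := not_cen C.frame.pos₁ (congrArg Prod.fst hq) hc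
    refine hφ j ?_
    rw [← hj]; exact hqχ
  by_cases hqz : q = (mid n, 1)
  · exact ⟨1, hqz ▸ hqc⟩
  obtain ⟨k, hk, hkS⟩ := C.exists_mover hqC hqc
  have hcv : ∀ p : DG n × DG 1, Cen p.1 → Commute p v := fun p hp =>
    commute_prod (hp.commute C.frame.pos₁ _) (four_comm _ _)
  have hzm : ((mid n, 1) : DG n × DG 1) * (mid n, 1) = 1 := Prod.ext (mid_sq C.frame.pos₁) (one_mul 1)
  obtain ⟨w, hw⟩ := hkS (mid n, 1) (hcv _ (Or.inr rfl))
  have hwC : ¬ Cen w.1 := fun h => by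
    have e := C.classes_mid h (isConj_iff.2 ⟨k, hw.symm⟩ : IsConj _ _).symm
    subst e
    have e1 : k * Φ (v * (mid n, 1)) * k⁻¹ = Φ (q * (mid n, 1)) := by
      rw [conj_mul_map, hk, ← hw, map_mul]
    have e2 : IsConj (Φ (v * (mid n, 1))) (Φ v) := by
      rw [hv, Prod.mk_mul_mk, mul_one]; exact C.conj_refl_mid (Or.inr rfl) 1
    have := (C.classes (hqC.mul C.frame.pos₁ (Or.inr rfl)) hqC
      (((isConj_iff.2 ⟨k, e1⟩ : IsConj _ _).symm.trans e2).trans hqc)).1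
    exact mid_ne_one C.frame.pos₁ (mul_eq_left.1 this)
  have lift : ∀ y : DG 1, ∃ (e : DG n) (r : DG n × DG 1), Cen e ∧ Cen r.1 ∧
      Φ r = k * Φ (e, y) * k⁻¹ := fun y => by
    obtain ⟨r, hr⟩ := hkS (1, y) (hcv _ (Or.inl rfl))
    by_cases h : Cen r.1
    · exact ⟨1, r, Or.inl rfl, h, hr⟩
    · exact ⟨mid n, w * r, Or.inr rfl, mul_image C.frame hzm (Prod.ext (one_mul 1) (four_sq y))
        (commute_prod (Commute.one_right _) (four_comm _ _)) hw hr hwC h,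
        by rw [map_mul, hw, hr, ← conj_mul_map, Prod.mk_mul_mk, mul_one, one_mul]⟩
  choose e r he hrC hr using lift
  have hinj : Function.Injective fun y => (r y).2 := fun y y' hyy => by
    have h : IsConj (Φ ((e y, y) * (e y', y'))) (Φ (r y * r y')) :=
      isConj_iff.2 ⟨k, by rw [conj_mul_map, ← hr, ← hr, map_mul]⟩
    have := (C.classes ((he y).mul C.frame.pos₁ (he y')) ((hrC y).mul C.frame.pos₁ (hrC y')) h).2.2
      (by rw [Prod.snd_mul, show (r y).2 = (r y').2 from hyy]; exact four_sq _)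
    calc y = y * (y' * y') := by rw [four_sq, mul_one]
      _ = y' := by rw [← mul_assoc, show y * y' = 1 from this, one_mul]
  obtain ⟨y, hy⟩ := Finite.surjective_of_injective hinj q.2
  have hy' : (r y).2 = q.2 := hy
  have hne : (r y).1 ≠ q.1 := fun h => by
    have e1 : k * Φ (e y, y) * k⁻¹ = k * Φ v * k⁻¹ := by rw [← hr, hk, show r y = q from Prod.ext h hy']
    have e2 : e y = sr i := congrArg Prod.fst (C.frame.inj ((MulAut.conj k).injective e1))
    exact not_cen_sr i (e2 ▸ he y)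
  refine ⟨y, ((C.conj_refl_mid (he y) y).symm.trans (isConj_iff.2 ⟨k, ?_⟩))⟩
  rw [show ((sr i * e y, y) : DG n × DG 1) = v * (e y, y) by simp [hv], conj_mul_map, hk, ← hr, ← map_mul]
  refine congrArg Φ (Prod.ext ?_ (by rw [Prod.snd_mul, hy', four_sq]))
  rw [Prod.fst_mul]
  rcases hqC with a | a <;> rcases hrC y with b | b <;> rw [a, b] at hne ⊢
  · exact absurd rfl hne
  · exact one_mul _
  · exact mul_one _
  · exact absurd rfl hne

theorem unique_z {i : ZMod (2 ^ n)} {y y' : DG 1} (h : IsConj (Φ (sr i, y)) (Φ (mid n, 1)))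
    (h' : IsConj (Φ (sr i, y')) (Φ (mid n, 1))) : y = y' := by
  obtain ⟨k, hk, hkS⟩ := C.exists_mover (Or.inr rfl) h
  obtain ⟨r, hr⟩ := hkS (sr i, y') (commute_prod (Commute.refl _) (four_comm _ _))
  have hrz : IsConj (Φ r) (Φ (mid n, 1)) := (isConj_iff.2 ⟨k, hr.symm⟩ : IsConj _ _).symm.trans h'
  by_cases hc : Cen r.1
  · rw [C.classes_mid hc hrz, ← hk] at hr
    exact congrArg Prod.snd (C.frame.inj ((MulAut.conj k).injective hr))
  · exfalso
    obtain ⟨u, hu⟩ := not_cen C.frame.pos₁ (congrArg Prod.fst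
      (sq_image C.frame (Prod.ext (sr_mul_self i) (four_sq _)) hr)) hc
    have e : k * Φ (1, y * y') * k⁻¹ = Φ (sr u * mid n, r.2) := by
      rw [show ((1, y * y') : DG n × DG 1) = (sr i, y) * (sr i, y') by
        rw [Prod.mk_mul_mk, sr_mul_self], conj_mul_map, hk, ← hr, ← map_mul,
        ← (mid_central C.frame.pos₁ (sr u)).eq]
      exact congrArg Φ (Prod.ext (by rw [Prod.fst_mul, hu]) (one_mul _))
    rw [show r = (sr u, r.2) from Prod.ext hu rfl] at hrz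
    exact mid_ne_one C.frame.pos₁ (C.classes (p := (1, y * y')) (q := (mid n, 1)) (Or.inl rfl) (Or.inr rfl)
      (((isConj_iff.2 ⟨k, e⟩ : IsConj _ _).trans (C.conj_refl_mid (Or.inr rfl) r.2)).trans hrz)).1.symm

/-- Twisting the large factor. -/
theorem exists_twisted (h2 : ∀ N : Subgroup G, N.Normal → N.index ≠ 2) :
    ∃ Φ' : DG n × DG 1 →* G, Cycle S Φ' g ∧
      ∀ p, p * p = 1 → p ≠ 1 → (IsConj (Φ' p) (Φ' (mid n, 1)) ↔ p.2 = 1) := by
  obtain ⟨φ, hφ, hφm, -, hiff⟩ := C.frame.exists_phi C.two (Φ (mid n, 1)) fun i => by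
    obtain ⟨c, hc⟩ := C.exists_z h2 i
    exact ⟨c, four_comm c, four_sq c, fun y _ => ⟨fun h => C.unique_z h hc, fun e => e ▸ hc⟩⟩
  let Θ : DG n × DG 1 →* DG n × DG 1 :=
    MonoidHom.noncommCoprod ((MonoidHom.id _).prod φ) (MonoidHom.inr _ _)
      fun x y => commute_prod (Commute.one_right _) (hφ x y)
  have hΘ : ∀ p, Θ p = (p.1, φ p.1 * p.2) := fun p => Prod.ext (mul_one p.1) rfl
  have hinj : Function.Injective Θ := (injective_iff_map_eq_one Θ).2 fun p hp => by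
    rw [hΘ] at hp
    have e1 : p.1 = 1 := congrArg Prod.fst hp
    have e2 : φ p.1 * p.2 = 1 := congrArg Prod.snd hp
    rw [e1, map_one, one_mul] at e2
    exact Prod.ext e1 e2
  have hΘy : ∀ y, Θ (1, y) = (1, y) := fun y => by rw [hΘ, map_one, one_mul]
  refine ⟨Φ.comp Θ, ⟨C.frame.comp Θ hinj, C.two, C.mem, ?_, ?_⟩, fun p hp hp1 => ?_⟩
  · show g * Φ (Θ (1, sr 0)) * g⁻¹ = Φ (Θ (1, sr 1))
    rw [hΘy, hΘy, C.zero]
  · show g * Φ (Θ (1, sr 1)) * g⁻¹ = Φ (Θ (1, r 1))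
    rw [hΘy, hΘy, C.one]
  show IsConj (Φ (Θ p)) (Φ (Θ (mid n, 1))) ↔ _
  rw [hΘ, hΘ (mid n, 1), hφm, one_mul]
  by_cases hc : Cen p.1
  · have e : φ p.1 = 1 := by
      rcases hc with e | e <;> rw [e]
      · exact map_one φ
      · exact hφm
    rw [e, one_mul]
    refine ⟨fun h => congrArg Prod.snd (C.classes_mid hc h), fun h => ?_⟩
    rcases hc with e1 | e1
    · exact absurd (Prod.ext e1 h) hp1
    · rw [e1, h]
  · obtain ⟨i, hi⟩ := not_cen C.frame.pos₁ (congrArg Prod.fst hp) hc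
    rw [hi, hiff i _ (four_sq _), mul_eq_left]

/-- The four-group is separated from the twisted reflections. -/
theorem separated (hA : ∀ p, p * p = 1 → p ≠ 1 → (IsConj (Φ p) (Φ (mid n, 1)) ↔ p.2 = 1)) :
    Separated Φ := by
  refine ⟨Φ (mid n, 1), Φ (1, sr 0), fun p hp hp1 => ⟨hA p hp hp1, ?_⟩⟩
  by_cases hc : Cen p.1
  · refine ⟨fun h => (C.classes hc (Or.inl rfl) h).1, fun h => ?_⟩
    rw [show p = (1, p.2) from Prod.ext h rfl]
    exact C.conj_four (Or.inl rfl) (fun e => hp1 (Prod.ext h e)) (sr_ne_one' 0)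
  refine ⟨fun h => ?_, fun h => absurd (Or.inl h) hc⟩
  exfalso
  obtain ⟨i, hi⟩ := not_cen C.frame.pos₁ (congrArg Prod.fst hp) hc
  have hvz : IsConj (Φ (sr i, 1)) (Φ (mid n, 1)) :=
    (hA _ (Prod.ext (sr_mul_self i) (one_mul 1)) fun e => sr_ne_one' i (congrArg Prod.fst e)).2 rfl
  let bad : DG 1 → Prop := fun y => IsConj (Φ (sr i, y)) (Φ (1, sr 0))
  have hbad : bad p.2 := by
    show IsConj _ _
    rwa [show ((sr i, p.2) : DG n × DG 1) = p from Prod.ext hi.symm rfl]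
  have hne : p.2 ≠ 1 := fun e => by
    have hb : IsConj (Φ (sr i, p.2)) (Φ (1, sr 0)) := hbad
    rw [e] at hb
    exact mid_ne_one C.frame.pos₁
      (C.classes (Or.inl rfl) (Or.inr rfl) (hb.symm.trans hvz)).1.symm
  -- an element fixing the reflection and moving the four-group
  have hstab : ∀ (x : G) (j : DG 1 → DG 1), x * Φ (sr i, 1) * x⁻¹ = Φ (sr i, 1) →
      (∀ y, x * Φ (1, y) * x⁻¹ = Φ (1, j y)) → ∀ y, bad y → bad (j y) := fun x j h1 h2 y hy => by
    refine IsConj.trans (IsConj.symm (isConj_iff.2 ⟨x, ?_⟩)) hy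
    rw [show ((sr i, y) : DG n × DG 1) = (sr i, 1) * (1, y) by simp,
      conj_mul_map, h1, h2, ← map_mul, Prod.mk_mul_mk, mul_one, one_mul]
  have hmove : ∀ k ∈ normalizer ((S : Subgroup G) : Set G), ∃ u,
      k * Φ (sr i, 1) * k⁻¹ = Φ (sr u, 1) := fun k hk => by
    obtain ⟨q, hq⟩ := C.frame.exists_eq ((Subgroup.mem_normalizer_iff.1 hk _).1 (C.frame.mem (sr i, 1)))
    have hqz : IsConj (Φ q) (Φ (mid n, 1)) := (isConj_iff.2 ⟨k, hq.symm⟩ : IsConj _ _).symm.trans hvz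
    have hq2 : q * q = 1 := sq_image C.frame (Prod.ext (sr_mul_self i) (one_mul 1)) hq
    by_cases hqc : Cen q.1
    · rw [C.classes_mid hqc hqz, ← C.frame.fix_mid C.two hk] at hq
      exact absurd (congrArg Prod.fst (C.frame.inj ((MulAut.conj k).injective hq))) (mid_ne_sr i)
    · obtain ⟨u, hu⟩ := not_cen C.frame.pos₁ (congrArg Prod.fst hq2) hqc
      refine ⟨u, ?_⟩
      rw [← hq]
      exact congrArg Φ (Prod.ext hu ((hA q hq2 fun e => hqc (Or.inl (congrArg Prod.fst e))).1 hqz))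
  obtain ⟨u₁, hu₁⟩ := hmove g C.mem
  obtain ⟨u₂, hu₂⟩ := hmove (g * g) (mul_mem C.mem C.mem)
  have hfix : ∀ (b : DG n × DG 1) (y : DG 1), (Φ b)⁻¹ * Φ (1, y) * Φ b = Φ (1, y) := fun b y => by
    rw [mul_assoc, ((commute_prod (Commute.one_left b.1) (four_comm y b.2)).map Φ).eq, inv_mul_cancel_left]
  have one_step : ∀ b : DG n × DG 1, Φ b * Φ (sr i, 1) * (Φ b)⁻¹ = Φ (sr u₁, 1) →
      ∀ y, bad y → bad (cyc y) := fun b hb => by
    refine hstab ((Φ b)⁻¹ * g) cyc ?_ fun y => ?_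
    · rw [show (Φ b)⁻¹ * g * Φ (sr i, 1) * ((Φ b)⁻¹ * g)⁻¹ =
        (Φ b)⁻¹ * (g * Φ (sr i, 1) * g⁻¹) * Φ b by group, hu₁, ← hb]
      group
    · rw [show (Φ b)⁻¹ * g * Φ (1, y) * ((Φ b)⁻¹ * g)⁻¹ = (Φ b)⁻¹ * (g * Φ (1, y) * g⁻¹) * Φ b by
        group, C.apply (Or.inl rfl), hfix]
  have hclosed : (∀ y, bad y → bad (cyc y)) ∨ ∀ y, bad y → bad (cyc (cyc y)) := by
    rcases sr_three C.frame.pos₁ i u₁ u₂ with ⟨a, ha⟩ | ⟨a, ha⟩ | ⟨a, ha⟩
    · exact Or.inl (one_step (a, 1) (by rw [← map_inv, ← map_mul, ← map_mul]; simp [ha]))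
    · refine Or.inr (hstab ((Φ (a, 1))⁻¹ * (g * g)) (fun y => cyc (cyc y)) ?_ fun y => ?_)
      · rw [show (Φ (a, 1))⁻¹ * (g * g) * Φ (sr i, 1) * ((Φ (a, 1))⁻¹ * (g * g))⁻¹ =
          (Φ (a, 1))⁻¹ * (g * g * Φ (sr i, 1) * (g * g)⁻¹) * Φ (a, 1) by group, hu₂,
          ← map_inv, ← map_mul, ← map_mul]
        exact congrArg Φ (Prod.ext (by simp [← ha, mul_assoc]) (by simp))
      · rw [show (Φ (a, 1))⁻¹ * (g * g) * Φ (1, y) * ((Φ (a, 1))⁻¹ * (g * g))⁻¹ =
          (Φ (a, 1))⁻¹ * (g * (g * Φ (1, y) * g⁻¹) * g⁻¹) * Φ (a, 1) by group, C.apply (Or.inl rfl),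
          C.apply (Or.inl rfl), hfix]
    · obtain ⟨b, hb⟩ := C.frame.exists_eq
        ((Subgroup.mem_normalizer_iff.1 (inv_mem C.mem) _).1 (C.frame.mem (a, 1)))
      refine Or.inl (one_step b ?_)
      rw [hb, show g⁻¹ * Φ (a, 1) * g⁻¹⁻¹ * Φ (sr i, 1) * (g⁻¹ * Φ (a, 1) * g⁻¹⁻¹)⁻¹ =
        g⁻¹ * (Φ (a, 1) * (g * Φ (sr i, 1) * g⁻¹) * (Φ (a, 1))⁻¹) * g by group, hu₁, ← map_inv Φ,
        ← map_mul, ← map_mul, show ((a, 1) * (sr u₁, 1) * (a, 1)⁻¹ : DG n × DG 1) = (sr u₂, 1) by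
          simp [ha], ← hu₂, show g⁻¹ * (g * g * Φ (sr i, 1) * (g * g)⁻¹) * g = g * Φ (sr i, 1) * g⁻¹ by
          group, hu₁]
  have hall : ∀ y, y ≠ 1 → bad y := fun y hy => by
    rcases hclosed with h1 | h1 <;> rcases cyc_reach hne hy with rfl | rfl | rfl
    · exact hbad
    · exact h1 _ hbad
    · exact h1 _ (h1 _ hbad)
    · exact hbad
    · exact cyc_four p.2 ▸ h1 _ (h1 _ hbad)
    · exact h1 _ hbad
  obtain ⟨k, hk, hkS⟩ := C.exists_mover (Or.inr rfl) hvz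
  choose im hr using fun y : DG 1 => hkS (1, y) (commute_prod (Commute.one_left _) (four_comm _ _))
  have hnc : ∀ y, y ≠ 1 → ¬ Cen (im y).1 := fun y hy hcr => by
    have hcl := C.classes (p := (1, y)) (q := im y) (Or.inl rfl) hcr (isConj_iff.2 ⟨k, (hr y).symm⟩)
    have hb : IsConj (Φ (sr i, y)) (Φ (1, sr 0)) := hall y hy
    have e : k * Φ (sr i, y) * k⁻¹ = Φ (mid n, (im y).2) := by
      rw [show ((sr i, y) : DG n × DG 1) = (sr i, 1) * (1, y) by simp, conj_mul_map, hk, ← hr, ← map_mul]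
      exact congrArg Φ (Prod.ext (by rw [Prod.fst_mul, ← hcl.1]; exact mul_one _) (one_mul _))
    exact C.not_conj (sr_ne_one' 0) _ (hb.symm.trans (isConj_iff.2 ⟨k, e⟩))
  have hsr1 : (sr 1 : DG 1) ≠ 1 := sr_ne_one' 1
  have hprod := mul_image C.frame (Prod.ext (one_mul 1) (four_sq (sr 0)))
    (Prod.ext (one_mul 1) (four_sq (sr 1))) (commute_prod (Commute.one_left _) (four_comm _ _))
    (hr (sr 0)) (hr (sr 1)) (hnc _ (sr_ne_one' 0)) (hnc _ hsr1)
  have heq : im (sr 0) * im (sr 1) = im (sr 0 * sr 1) := C.frame.inj (by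
    rw [map_mul, hr, hr, hr, ← conj_mul_map, Prod.mk_mul_mk, one_mul])
  rw [heq] at hprod
  exact hnc _ (by decide) hprod

end Cycle

end CfsgLib.TwoFusion.DihedralProduct.Fusion
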